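import Cfsg.Agent.H726.Four.WittNode
import Cfsg.Agent.H967.K4.Lie
import Cfsg.Agent.H740.K4.Equiv

/-!
# Five good characters of `PSU₆(q)`, `q` even (helper726, TEAM K4)

* `good5_witt` : models of Witt frames with `V0 = ⊥` of rank three, characteristic two;
* `good5_psu_six` : `PSU₆(q)`, `q` even.
-/

set_option autoImplicit false

open Cfsg

namespace Cfsg.Agent.H726.Four

open Cfsg.Agent.ChevalleyStructure.CoxeterGeom Cfsg.Agent.Tits.Roots Cfsg.Agent.Nodes.TypeC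
open Cfsg.Agent.Nodes.Comb Cfsg.Agent.Nodes.Reps Cfsg.Agent.Nodes.WittRoot Cfsg.Agent.Nodes.BNOf
open Cfsg.Agent.Nodes.WittRGD Cfsg.Agent.Nodes.RGDLib
open Cfsg.Agent.TitsThree Cfsg.Agent.TitsThree.Siegel Cfsg.Agent.TitsThree.WittFrame
  Cfsg.Agent.TitsThree.WittWeyl Cfsg.Agent.TitsThree.FrameCN
open Cfsg.Agent.Nodes
open Cfsg.Agent.Nodes.WittAll (AmbT)
open Cfsg.Agent.Nodes.WittU Cfsg.Agent.Nodes.WittInst
  Cfsg.Agent.TitsThree.SiegelGen Cfsg.Agent.TitsThree.WBridge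
open Cfsg.Agent.H967.K4 Cfsg.Agent.H601.K4

universe u

/-- **Witt frames of rank three with `V0 = ⊥`, characteristic two.** -/
theorem good5_witt {F : Type*} [Field F] {V : Type*} [AddCommGroup V] [Module F V] {H : HForm F V}
    {Fr : Frame H (Fin 3)} {K : Type*} [Group K] [Finite K] (M : Model Fr K) (hA : AmbT Fr 2 M.I) (hV0 : Fr.V0 = ⊥)
    [Finite V] [CharP F 2] {p0 : Fr.Adm} (hp0 : p0.c ≠ 0) (hT : H601.OddDeg.TwoC K) : Good5 K := by
  have : Fact (Nat.Prime 2) := ⟨Nat.prime_two⟩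
  let cs := (CoxeterMatrix.B 3).toCoxeterSystem
  have hW : Finite (CoxeterMatrix.B 3).Group := Nodes.TypeC.finite_W cs
  have := Fintype.ofFinite (CoxeterMatrix.B 3).Group
  have R := WittAll.rgdC_model M hA hp0 cs
  have h12 : (CoxeterMatrix.B 3) 0 1 = 3 := by decide
  have h13 : (CoxeterMatrix.B 3) 0 2 = 2 := by decide
  have h23 : (CoxeterMatrix.B 3) 1 2 = 4 := by decide
  refine good5_of_pair R (gg_of_g1 (WittModel.G1_eq_top M (by norm_num) cs)) hT (a := 0) (b := 1) (c := 2) h12 h13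
    (oc_last M hA hV0 hp0 cs (by decide)) ?_
  refine rep_ne_of_len _ _ ?_
  rw [len_eq (i := 0) (j := 1) _ (isCartan 3) h12]
  exact len_ne _ (isCartan 3) h23

/-- **`PSU₆(q)`, `q` even.** -/
theorem good5_psu_six {S : Type u} [Group S] [Finite S] [IsSimpleGroup S] {F : Type} [Field F] [Fintype F]
    [CharP F 2] {q : ℕ} (hF : Fintype.card F = q ^ 2) (e : S ≃* PSU 6 F q) (hT : H601.OddDeg.TwoC S) : Good5 S := by
  have : Fact (Nat.Prime 2) := ⟨Nat.prime_two⟩
  have hfin : Finite (PSU 6 F q) := Finite.of_equiv S e.toEquiv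
  obtain ⟨W, hW⟩ := KSideU.exists_wframe_even hF (N := 6) (m := 3) rfl
  obtain ⟨p0, hp0, -⟩ := exists_adm hF W
  exact H740.K4.good5_of_equiv e (good5_witt (KInstU.model hF (by norm_num) W) (AmbT.of_amb (amb_U hF W) 2) hW hp0
    (hT.congr e))

/-- **`PSp₆(q)`, `q` even.** -/
theorem good5_psp_three {S : Type u} [Group S] [Finite S] [IsSimpleGroup S] {F : Type} [Field F] [Fintype F]
    [CharP F 2] (e : S ≃* PSp 3 F) (hT : H601.OddDeg.TwoC S) : Good5 S := by
  have : Fact (Nat.Prime 2) := ⟨Nat.prime_two⟩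
  have hfin : Finite (PSp 3 F) := Finite.of_equiv S e.toEquiv
  exact H740.K4.good5_of_equiv e (good5_witt (KInstSp.model 3 F) (AmbT.of_amb amb_Sp 2) rfl (p0 := SpIdent.adm 1)
    one_ne_zero (hT.congr e))

end Cfsg.Agent.H726.Four
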