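import Cfsg.Agent.H726.Four.Rgd
import Cfsg.Agent.H967.K4.Crit

/-!
# The sets `LamSet R Λ` of characters of the torus, by counting (helper726, TEAM K4)

* `lamSet_of_elts` : from elements of `T` pairwise not conjugate under `NN`;
* `lamSet_of_conj` : from elements of `T` pairwise not conjugate in `Y`;
* `lamSet_of_card`, `lamSet_of_abel`, `lamSet_of_node` : counting, as in `Rgd.lean`;
* `good5_rgd_of_card`, `good5_rgd_of_abel`, `good5_rgd_of_conj` : five characters of type `∅`.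
-/

set_option autoImplicit false
set_option linter.unusedSectionVars false

open scoped ComplexConjugate
open Cfsg

namespace Cfsg.Agent.H726.Four

open Cfsg.Agent.OddOrderCharacters.Clifford Cfsg.Agent.Characters Cfsg.Agent.H601.K4 Cfsg.Agent.H967.K4
  Cfsg.Agent.H246.Dl
open CoxeterSystem Cfsg.Agent.ChevalleyStructure.CoxeterGeom Cfsg.Agent.Tits.Roots Cfsg.Agent.Tits.Core
  Cfsg.Agent.Tits.Exchange Cfsg.Agent.Nodes.Reps Cfsg.Agent.Nodes.BNOf Cfsg.Agent.Nodes.StabComb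
  Cfsg.Agent.Nodes.Bruhat Cfsg.Agent.Nodes.OppDec Cfsg.Agent.Nodes.LeviDec Cfsg.Agent.H53.HC

universe u v w

variable {I : Type v} {W : Type w} {Y : Type u} [Fintype I] [DecidableEq I] [Group W] [Group Y] {M : CoxeterMatrix I}
  {cs : CoxeterSystem M W} {A : I → I → ℤ} {h : IsCartan M A} {T : Subgroup Y} {n : I → Y}
  {X : (I → ℤ) → Subgroup Y}

variable (R : RGD cs h 2 T n X)

include R

/-- **From elements of the torus.** -/
theorem lamSet_of_elts [Finite W] [Finite Y] (hG : GG cs h T X = ⊤) [Fintype T] {m : ℕ} (t : Fin m → T)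
    (ht : ∀ i j, i ≠ j → ∀ x ∈ NN cs R.nsys, x * t i * x⁻¹ ≠ (t j : Y)) :
    ∃ Λ : Finset (T → ℂ), Λ.card = m ∧ LamSet R Λ := by
  classical
  have hsb := sb_of_rgd R hG
  obtain ⟨lam, h1, h2⟩ := exists_orb hsb.le hsb.nT t ht
  have hinj : Function.Injective lam := by
    intro i j e
    by_contra hij
    refine h2 i j hij 1 (one_mem _) ?_
    rw [e]
    funext s
    rw [Function.comp_apply]
    congr 1
    apply Subtype.ext
    rw [cT_coe]
    group
  refine ⟨Finset.univ.image lam, ?_, ?_, ?_⟩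
  · rw [Finset.card_image_of_injective _ hinj, Finset.card_univ, Fintype.card_fin]
  · intro l hl
    obtain ⟨i, -, rfl⟩ := Finset.mem_image.1 hl
    exact hsb.oddIrr (h1 i)
  · intro l hl k hk hne w g hg hgT
    obtain ⟨i, -, rfl⟩ := Finset.mem_image.1 hl
    obtain ⟨j, -, rfl⟩ := Finset.mem_image.1 hk
    have hij : i ≠ j := fun e => hne (by rw [e])
    have hgN : g ∈ NN cs R.nsys := ⟨w, hg⟩
    have h3 := h2 i j hij g hgN
    have hmk : IsIrrCharacter T (lam j ∘ cT T g (hsb.nT hgN)) := Core.isIrr_comp _ (cT_surj T _) (h1 j)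
    have h5 : classInner (lam i) (lam j ∘ cT T g (hsb.nT hgN)) = 0 := by
      rw [Core.classInner_irr (h1 i) hmk, if_neg h3]
    rw [Core.classInner_def, mul_eq_zero] at h5
    rcases h5 with h5 | h5
    · exact absurd h5 (inv_ne_zero Core.card_ne_zero_complex)
    · exact h5

/-- **From elements of the torus not conjugate in the group.** -/
theorem lamSet_of_conj [Finite W] [Finite Y] (hG : GG cs h T X = ⊤) [Fintype T] {m : ℕ} (t : Fin m → T)
    (ht : ∀ i j, i ≠ j → ¬ IsConj (t i : Y) (t j : Y)) :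
    ∃ Λ : Finset (T → ℂ), Λ.card = m ∧ LamSet R Λ :=
  lamSet_of_elts R hG t fun i j hij x _ e => ht i j hij (isConj_iff.2 ⟨x, e⟩)

/-- **Counting**; `W₀` acts trivially on `T`. -/
theorem lamSet_of_card [Finite W] [Finite Y] (hG : GG cs h T X = ⊤) [Fintype T] (W₀ : Subgroup W)
    (hW : ∀ w ∈ W₀, ∀ g, Rp cs R.nsys w g → ∀ t ∈ T, g * t = t * g) {m : ℕ} (hm : 2 ≤ m)
    (hc : 1 + (m - 2) * W₀.index < Nat.card T) :
    ∃ Λ : Finset (T → ℂ), Λ.card = m ∧ LamSet R Λ := by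
  have h1 : (NW cs R.nsys W₀).relIndex (NN cs R.nsys) ≤ W₀.index := relIndex_NW_le W₀
  have h2 := Nat.mul_le_mul_left (m - 2) h1
  obtain ⟨t, ht⟩ := exists_elts₂ (sb_of_rgd R hG).nT (C := NW cs R.nsys W₀) (by
    rintro c ⟨w, hw, hc⟩ t ht
    exact hW w hw c hc t ht) hm (by omega)
  exact lamSet_of_elts R hG t ht

/-- **Counting**, `T` abelian. -/
theorem lamSet_of_abel [Finite W] [Finite Y] (hG : GG cs h T X = ⊤) [Fintype T]
    (hT : ∀ a ∈ T, ∀ b ∈ T, a * b = b * a) {m : ℕ} (hm : 2 ≤ m) (hc : 1 + (m - 2) * Nat.card W < Nat.card T) :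
    ∃ Λ : Finset (T → ℂ), Λ.card = m ∧ LamSet R Λ := by
  refine lamSet_of_card R hG ⊥ (comm_of_bot hT) hm ?_
  rwa [Subgroup.index_bot]

/-- **Counting**; `W₀` acts trivially on `T`, `W₁` fixes `t₁ ≠ 1`. -/
theorem lamSet_of_card₃ [Finite W] [Finite Y] (hG : GG cs h T X = ⊤) [Fintype T] (W₀ W₁ : Subgroup W)
    (hW : ∀ w ∈ W₀, ∀ g, Rp cs R.nsys w g → ∀ t ∈ T, g * t = t * g) {t₁ : Y} (ht₁ : t₁ ∈ T) (hne : t₁ ≠ 1)
    (hW₁ : ∀ w ∈ W₁, ∀ g, Rp cs R.nsys w g → g * t₁ = t₁ * g) {m : ℕ} (hm : 3 ≤ m)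
    (hc : 1 + W₁.index + (m - 3) * W₀.index < Nat.card T) :
    ∃ Λ : Finset (T → ℂ), Λ.card = m ∧ LamSet R Λ := by
  have h1 : (NW cs R.nsys W₀).relIndex (NN cs R.nsys) ≤ W₀.index := relIndex_NW_le W₀
  have h1' : (NW cs R.nsys W₁).relIndex (NN cs R.nsys) ≤ W₁.index := relIndex_NW_le W₁
  have h2 := Nat.mul_le_mul_left (m - 3) h1
  obtain ⟨t, ht⟩ := exists_elts₃ (sb_of_rgd R hG).nT (C := NW cs R.nsys W₀) (D := NW cs R.nsys W₁) (by
    rintro c ⟨w, hw, hc⟩ t ht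
    exact hW w hw c hc t ht) ht₁ hne (by
    rintro c ⟨w, hw, hc⟩
    exact hW₁ w hw c hc) hm (by omega)
  exact lamSet_of_elts R hG t ht

/-- **Counting**, `T` abelian and not contained in `M_i`. -/
theorem lamSet_of_node [Finite W] [Finite Y] (hG : GG cs h T X = ⊤) [Fintype T]
    (hT : ∀ a ∈ T, ∀ b ∈ T, a * b = b * a) (i : I) (hi : ¬ T ≤ MJ cs h X {i}) {m : ℕ} (hm : 3 ≤ m)
    (hc : 1 + Nat.card W / 2 + (m - 3) * Nat.card W < Nat.card T) :
    ∃ Λ : Finset (T → ℂ), Λ.card = m ∧ LamSet R Λ := by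
  obtain ⟨t, ht⟩ := exists_elts_of_node R hG hT i hi hm hc
  exact lamSet_of_elts R hG t ht

/-- **Five characters of type `∅`.** -/
theorem good5_rgd_of_conj [Finite W] [Finite Y] (hG : GG cs h T X = ⊤) (hC : H601.OddDeg.TwoC Y) (t : Fin 5 → T)
    (ht : ∀ i j, i ≠ j → ¬ IsConj (t i : Y) (t j : Y)) : Good5 Y :=
  (sb_of_rgd R hG).good5_of_elts hC t ht

/-- **Five characters of type `∅`.** -/
theorem good5_rgd_of_card [Finite W] [Finite Y] (hG : GG cs h T X = ⊤) (hC : H601.OddDeg.TwoC Y) (W₀ : Subgroup W)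
    (hW : ∀ w ∈ W₀, ∀ g, Rp cs R.nsys w g → ∀ t ∈ T, g * t = t * g) (hc : 3 * W₀.index + 1 < Nat.card T) :
    Good5 Y := by
  obtain ⟨χ, h1, h2⟩ := rgd_of_card R hG W₀ hW (m := 5) (by norm_num) (by omega)
  exact ⟨χ, h1, fun i => (h2 i).2.1.good (h2 i).1 hC⟩

/-- **Five characters of type `∅`.** -/
theorem good5_rgd_of_abel [Finite W] [Finite Y] (hG : GG cs h T X = ⊤) (hC : H601.OddDeg.TwoC Y)
    (hT : ∀ a ∈ T, ∀ b ∈ T, a * b = b * a) (hc : 3 * Nat.card W + 1 < Nat.card T) : Good5 Y := by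
  obtain ⟨χ, h1, h2⟩ := rgd_of_abel R hG hT (m := 5) (by norm_num) (by omega)
  exact ⟨χ, h1, fun i => (h2 i).2.1.good (h2 i).1 hC⟩

end Cfsg.Agent.H726.Four
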