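import Cfsg.Agent.H726.Four.PsuSix
import Cfsg.Agent.H726.Four.Lam

/-!
# Witt frames of rank three with `V0 ≠ ⊥`, characteristic two (helper726, TEAM K4)

* `Nm` : the monomial elements; `NN_le` ;
* `aa` : the elements `h_α(t)` of the torus;
* `exists_three` : three elements of the torus pairwise not conjugate under the Weyl group, if `V0 ≠ ⊥`, `|F| ≥ 4`;
* `good5_witt'` ;
* `good5_psu_seven` : `PSU₇(q)`, `q` even.
-/

set_option autoImplicit false
set_option linter.unusedSectionVars false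

open Cfsg

namespace Cfsg.Agent.H726.Four

open Cfsg.Agent.ChevalleyStructure.CoxeterGeom Cfsg.Agent.Tits.Roots Cfsg.Agent.Nodes.TypeC
open Cfsg.Agent.Nodes.Comb Cfsg.Agent.Nodes.Reps Cfsg.Agent.Nodes.WittRoot Cfsg.Agent.Nodes.BNOf
open Cfsg.Agent.Nodes.WittRGD Cfsg.Agent.Nodes.RGDLib
open Cfsg.Agent.TitsThree Cfsg.Agent.TitsThree.Siegel Cfsg.Agent.TitsThree.WittFrame
  Cfsg.Agent.TitsThree.WittWeyl Cfsg.Agent.TitsThree.FrameCN
open Cfsg.Agent.Nodes
open Cfsg.Agent.Nodes.WittAll (AmbT)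
open Cfsg.Agent.Nodes.WittU Cfsg.Agent.Nodes.WittInst
  Cfsg.Agent.TitsThree.SiegelGen Cfsg.Agent.TitsThree.WBridge
open Cfsg.Agent.H967.K4 Cfsg.Agent.H601.K4

universe u

section frame

variable {F : Type*} [Field F] {V : Type*} [AddCommGroup V] [Module F V] {H : HForm F V} {n : ℕ}
  {Fr : Frame H (Fin n)}

variable (Fr) in
/-- the monomial elements of `G0` -/
def Nm (G0 : Subgroup (V ≃ₗ[F] V)) : Subgroup (V ≃ₗ[F] V) where
  carrier := {g | g ∈ G0 ∧ ∃ π : Equiv.Perm (Fin n × Bool), Mono Fr g π}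
  one_mem' := ⟨one_mem _, 1, Mono.one⟩
  mul_mem' := by
    rintro g k ⟨hg, π, h1⟩ ⟨hk, ρ, h2⟩
    exact ⟨mul_mem hg hk, π * ρ, h1.mul h2⟩
  inv_mem' := by
    rintro g ⟨hg, π, h1⟩
    exact ⟨inv_mem hg, π⁻¹, h1.inv fun x => π.apply_symm_apply x⟩

theorem conj_fix_iff {g h : V ≃ₗ[F] V} {π : Equiv.Perm (Fin n × Bool)} (hg : Mono Fr g π) (y : Fin n × Bool) :
    (g * h * g⁻¹) (Fr.b (π y)) = Fr.b (π y) ↔ h (Fr.b y) = Fr.b y := by
  obtain ⟨l, hl, e⟩ := hg y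
  have h1 : g⁻¹ (Fr.b (π y)) = l⁻¹ • Fr.b y := inv_apply_of hl e
  rw [mul_apply', mul_apply', h1, map_smul, map_smul]
  constructor
  · intro h2
    have h3 : g⁻¹ (l⁻¹ • g (h (Fr.b y))) = g⁻¹ (Fr.b (π y)) := by rw [h2]
    rw [map_smul, h1] at h3
    have h4 : g⁻¹ (g (h (Fr.b y))) = h (Fr.b y) := g.symm_apply_apply _
    rw [h4] at h3
    exact smul_right_injective V (inv_ne_zero hl) h3
  · intro h2
    rw [h2, e, smul_smul, inv_mul_cancel₀ hl, one_smul]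

variable (Fr) in
/-- `h_α(t)` -/
def aa (i j : Fin n) (t : F) : V ≃ₗ[F] V := nX Fr (i, true) (j, false) t * (nX Fr (i, true) (j, false) 1)⁻¹

theorem aa_true {i j : Fin n} (hij : i ≠ j) {t : F} (ht : t ≠ 0) :
    aa Fr i j t (Fr.b (i, true)) = t • Fr.b (i, true) := by
  have h1 := nX_apply_neg Fr (x := (i, true)) (y := (j, false)) hij one_ne_zero
  have h2 := nX_apply_neg Fr (x := (i, true)) (y := (j, false)) hij ht
  have h3 := inv_apply_of one_ne_zero h1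
  rw [inv_one, one_smul] at h3
  rw [aa, mul_apply', h3, h2]

theorem aa_neg_true {i j : Fin n} (hij : i ≠ j) {t : F} (ht : t ≠ 0) :
    aa Fr i j t (Fr.b (j, true)) = t⁻¹ • Fr.b (j, true) := by
  have h1 := nX_apply_self Fr (x := (i, true)) (y := (j, false)) hij one_ne_zero
  have h2 := nX_apply_self Fr (x := (i, true)) (y := (j, false)) hij ht
  rw [inv_one, one_smul, ← neg_one_smul F] at h1
  have h3 := inv_apply_of (neg_ne_zero.2 one_ne_zero) h1
  have h4 : (nX Fr (i, true) (j, false) 1)⁻¹ (Fr.b (j, true)) = (-1 : F)⁻¹ • Fr.b (i, true) := h3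
  rw [aa, mul_apply', h4, map_smul, h2]
  change (-1 : F)⁻¹ • -(t⁻¹ • Fr.b (j, true)) = _
  rw [inv_neg, inv_one, neg_one_smul, _root_.neg_neg]

theorem aa_false {i j : Fin n} (hij : i ≠ j) {t : F} (ht : t ≠ 0) :
    aa Fr i j t (Fr.b (j, false)) = H.σ t • Fr.b (j, false) := by
  have h1 := nX_apply_neg' Fr (x := (i, true)) (y := (j, false)) hij one_ne_zero
  have h2 := nX_apply_neg' Fr (x := (i, true)) (y := (j, false)) hij ht
  have hc : H.ε⁻¹ * Fr.η (i, true) * Fr.η (j, false) ≠ 0 :=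
    mul_ne_zero (mul_ne_zero (inv_ne_zero H.ε_ne) (Fr.η_ne _)) (Fr.η_ne _)
  rw [map_one, mul_one, ← neg_smul] at h1
  have h3 := inv_apply_of (neg_ne_zero.2 hc) h1
  rw [aa, mul_apply', h3, map_smul, h2, ← neg_smul, smul_smul, inv_neg, neg_mul_neg, ← mul_assoc,
    inv_mul_cancel₀ hc, one_mul]

theorem aa_neg_false {i j : Fin n} (hij : i ≠ j) {t : F} (ht : t ≠ 0) :
    aa Fr i j t (Fr.b (i, false)) = (H.σ t)⁻¹ • Fr.b (i, false) := by
  have h1 := nX_apply_self' Fr (x := (i, true)) (y := (j, false)) hij one_ne_zero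
  have h2 := nX_apply_self' Fr (x := (i, true)) (y := (j, false)) hij ht
  have hc : H.ε⁻¹ * Fr.η (i, true) * Fr.η (j, false) ≠ 0 :=
    mul_ne_zero (mul_ne_zero (inv_ne_zero H.ε_ne) (Fr.η_ne _)) (Fr.η_ne _)
  have hσ : H.σ t ≠ 0 := by simpa using ht
  rw [map_one, mul_one] at h1
  have h3 := inv_apply_of (inv_ne_zero hc) h1
  have h4 : (nX Fr (i, true) (j, false) 1)⁻¹ (Fr.b (i, false)) =
    (H.ε⁻¹ * Fr.η (i, true) * Fr.η (j, false))⁻¹⁻¹ • Fr.b (j, false) := h3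
  rw [aa, mul_apply', h4, map_smul, h2, smul_smul]
  change _ • Fr.b (i, false) = _
  congr 1
  rw [inv_inv, mul_inv]
  rw [← mul_assoc, mul_inv_cancel₀ hc, one_mul]

theorem aa_of_ne {i j : Fin n} (hij : i ≠ j) {t : F} {z : Fin n × Bool} (h1 : z.1 ≠ i) (h2 : z.1 ≠ j) :
    aa Fr i j t (Fr.b z) = Fr.b z := by
  have h3 := nX_apply_of_ne Fr (x := (i, true)) (y := (j, false)) (z := z) hij h1 h2
  have h4 := inv_apply_of (g := nX Fr (i, true) (j, false) 1) (a := 1) one_ne_zero (v := Fr.b z) (w := Fr.b z)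
    (by rw [h3 1, one_smul])
  rw [inv_one, one_smul] at h4
  rw [aa, mul_apply', h4, h3 t]

theorem aa_V0 {i j : Fin n} (hij : i ≠ j) {t : F} {v : V} (hv : v ∈ Fr.V0) : aa Fr i j t v = v := by
  have h3 := nX_apply_V0 Fr (x := (i, true)) (y := (j, false)) hij hv
  have h4 := inv_apply_of (g := nX Fr (i, true) (j, false) 1) (a := 1) one_ne_zero (v := v) (w := v)
    (by rw [h3 1, one_smul])
  rw [inv_one, one_smul] at h4
  rw [aa, mul_apply', h4, h3 t]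

theorem aa_mem {p : ℕ} {G0 : Subgroup (V ≃ₗ[F] V)} (hA : AmbT Fr p G0) {i j : Fin n} (hij : i ≠ j) {t : F}
    (ht : t ≠ 0) : aa Fr i j t ∈ Tor Fr G0 := by
  refine ⟨mul_mem (WittAll.nX_mem hA _ _ _) (inv_mem (WittAll.nX_mem hA _ _ _)), ?_⟩
  rintro ⟨k, s⟩
  by_cases h1 : k = i
  · subst h1
    cases s
    · exact ⟨_, inv_ne_zero (by simpa using ht), aa_neg_false hij ht⟩
    · exact ⟨_, ht, aa_true hij ht⟩
  · by_cases h2 : k = j
    · subst h2
      cases s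
      · exact ⟨_, by simpa using ht, aa_false hij ht⟩
      · exact ⟨_, inv_ne_zero ht, aa_neg_true hij ht⟩
    · refine ⟨1, one_ne_zero, ?_⟩
      rw [one_smul]
      exact aa_of_ne hij h1 h2

theorem smul_eq_self_iff {c : F} {v : V} (hv : v ≠ 0) : c • v = v ↔ c = 1 := by
  constructor
  · intro h
    have h1 : (c - 1) • v = 0 := by rw [sub_smul, one_smul, h, sub_self]
    rcases smul_eq_zero.1 h1 with h2 | h2
    · exact sub_eq_zero.1 h2
    · exact absurd h2 hv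
  · rintro rfl
    exact one_smul _ _

/-- a scalar-like element fixing a vector of `V0` -/
theorem fix_of_scalar (h0 : ∀ x, ∀ w ∈ Fr.V0, H.h w (Fr.b x) = 0) {z : V ≃ₗ[F] V}
    (hz : ∀ v, ∃ c : F, z v = c • v) {v0 : V} (hv0 : v0 ∈ Fr.V0) (hne : v0 ≠ 0) (hfix : z v0 = v0)
    (x : Fin n × Bool) : z (Fr.b x) = Fr.b x := by
  obtain ⟨c, hc⟩ := hz (Fr.b x + v0)
  obtain ⟨d, hd⟩ := hz (Fr.b x)
  rw [map_add, hd, hfix, smul_add] at hc
  have e1 : H.h (Fr.b x) (Fr.b (neg x)) ≠ 0 := by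
    rw [Fr.hb_self_neg]
    exact Fr.η_ne _
  have h1 := congrArg (fun v => H.h v (Fr.b (neg x))) hc
  simp only [H.add_left, H.smul_left, h0 _ v0 hv0, mul_zero, add_zero] at h1
  have h2 : d = c := mul_right_cancel₀ e1 h1
  rw [h2] at hc hd
  have h3 : v0 = c • v0 := add_left_cancel hc
  have h4 : c = 1 := (smul_eq_self_iff hne).1 h3.symm
  rw [hd, h4, one_smul]

end frame

section model

variable {F : Type*} [Field F] {V : Type*} [AddCommGroup V] [Module F V] {H : HForm F V} {n : ℕ}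
  {Fr : Frame H (Fin n)} {K : Type*} [Group K] (M : Model Fr K) {p : ℕ} (hA : AmbT Fr p M.I)

include hA

/-- `NN` is the image of the monomial elements -/
theorem NN_le {p0 : Fr.Adm} (hp0 : p0.c ≠ 0) {W : Type*} [Group W] (cs : CoxeterSystem (CoxeterMatrix.B n) W)
    (hN : NSys (CoxeterMatrix.B n) (WittModel.T M) (fun i => M.φ ⟨nn Fr p0 i, WittAll.nn_mem hA p0 i⟩)) :
    NN cs hN ≤ ((Nm Fr M.I).subgroupOf M.I).map M.φ := by
  rw [NN_eq, sup_le_iff]
  constructor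
  · rintro _ ⟨t, ht, rfl⟩
    refine Subgroup.mem_map_of_mem _ ?_
    have h1 := Subgroup.mem_subgroupOf.1 ht
    exact Subgroup.mem_subgroupOf.2 ⟨h1.1, 1, h1.2⟩
  · rw [Subgroup.closure_le]
    rintro _ ⟨i, rfl⟩
    refine Subgroup.mem_map_of_mem _ (Subgroup.mem_subgroupOf.2 ⟨WittAll.nn_mem hA p0 i, ?_⟩)
    exact ⟨⟨sg i, sg i, sg_sg i, sg_sg i⟩, mono_nn hp0 i⟩

/-- conjugate elements of the torus have equivalent sets of fixed frame vectors -/
theorem exists_perm_of_conj {g h k : V ≃ₗ[F] V} (hg : g ∈ Nm Fr M.I) (hh : h ∈ M.I) (hk : k ∈ M.I)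
    (hh0 : ∀ v ∈ Fr.V0, h v = v) (hk0 : ∀ v ∈ Fr.V0, k v = v) {v0 : V} (hv0 : v0 ∈ Fr.V0) (hne : v0 ≠ 0)
    (e : M.φ ⟨g, hg.1⟩ * M.φ ⟨h, hh⟩ * (M.φ ⟨g, hg.1⟩)⁻¹ = M.φ ⟨k, hk⟩) :
    ∃ π : Equiv.Perm (Fin n × Bool), ∀ y, k (Fr.b (π y)) = Fr.b (π y) ↔ h (Fr.b y) = Fr.b y := by
  obtain ⟨hgI, π, hπ⟩ := hg
  refine ⟨π, fun y => ?_⟩
  rw [← conj_fix_iff (h := h) hπ]
  have hker : M.φ ((⟨k, hk⟩ : M.I)⁻¹ * (⟨g, hgI⟩ * ⟨h, hh⟩ * (⟨g, hgI⟩ : M.I)⁻¹)) = 1 := by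
    rw [map_mul, map_inv, map_mul, map_mul, map_inv, e, inv_mul_cancel]
  have hz : ∀ v, ∃ c : F, (k⁻¹ * (g * h * g⁻¹)) v = c • v := fun v => M.ker v _ hker
  have hg0 : g⁻¹ v0 ∈ Fr.V0 :=
    hA.map_V0 (inv_mem hgI) (π := π.symm) (ρ := π) (hπ.inv fun x => π.apply_symm_apply x)
      (fun x => π.symm_apply_apply x) hv0
  have hk0' : k⁻¹ v0 = v0 := by
    have h1 : k⁻¹ (k v0) = v0 := k.symm_apply_apply _
    rwa [hk0 v0 hv0] at h1
  have hfix : (k⁻¹ * (g * h * g⁻¹)) v0 = v0 := by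
    rw [mul_apply', mul_apply', mul_apply', hh0 _ hg0]
    have h1 : g (g⁻¹ v0) = v0 := g.apply_symm_apply _
    rw [h1, hk0']
  have h1 := fix_of_scalar (Fr := Fr) (fun x w hw => Fr.h0' x hw) hz hv0 hne hfix (π y)
  rw [mul_apply'] at h1
  have h2 : (g * h * g⁻¹) (Fr.b (π y)) = k (Fr.b (π y)) := by
    have h3 : k (k⁻¹ ((g * h * g⁻¹) (Fr.b (π y)))) = (g * h * g⁻¹) (Fr.b (π y)) := k.apply_symm_apply _
    rw [h1] at h3
    exact h3.symm
  rw [h2]

end model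

section three

variable {F : Type*} [Field F] {V : Type*} [AddCommGroup V] [Module F V] {H : HForm F V}
  {Fr : Frame H (Fin 3)} {K : Type*} [Group K] (M : Model Fr K) {p : ℕ} (hA : AmbT Fr p M.I)

include hA

/-- **Three elements of the torus.** -/
theorem exists_three {p0 : Fr.Adm} (hp0 : p0.c ≠ 0) {W : Type*} [Group W] (cs : CoxeterSystem (CoxeterMatrix.B 3) W)
    (hN : NSys (CoxeterMatrix.B 3) (WittModel.T M) (fun i => M.φ ⟨nn Fr p0 i, WittAll.nn_mem hA p0 i⟩))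
    (hV0 : Fr.V0 ≠ ⊥) {s t : F} (hs : s ≠ 0) (ht : t ≠ 0) (hs1 : s ≠ 1) (ht1 : t ≠ 1) (hst : s ≠ t) :
    ∃ u : Fin 3 → WittModel.T M, ∀ i j, i ≠ j → ∀ x ∈ NN cs hN, x * u i * x⁻¹ ≠ (u j : K) := by
  obtain ⟨v0, hv0, hne⟩ := Submodule.exists_mem_ne_zero_of_ne_bot hV0
  -- the elements of the torus
  let h1 : V ≃ₗ[F] V := aa Fr 0 1 s
  let h2 : V ≃ₗ[F] V := aa Fr 0 1 s * aa Fr 1 2 t
  have m1 : h1 ∈ Tor Fr M.I := aa_mem hA (by decide) hs
  have m2 : h2 ∈ Tor Fr M.I := mul_mem m1 (aa_mem hA (by decide) ht)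
  have f0 : ∀ v ∈ Fr.V0, (1 : V ≃ₗ[F] V) v = v := fun v _ => rfl
  have f1 : ∀ v ∈ Fr.V0, h1 v = v := fun v hv => aa_V0 (by decide) hv
  have f2 : ∀ v ∈ Fr.V0, h2 v = v := by
    intro v hv
    change (aa Fr 0 1 s * aa Fr 1 2 t) v = v
    rw [mul_apply', aa_V0 (by decide) hv, aa_V0 (by decide) hv]
  -- fixed frame vectors
  have a0 : ∀ x, (1 : V ≃ₗ[F] V) (Fr.b x) = Fr.b x := fun x => rfl
  have a1 : h1 (Fr.b (2, true)) = Fr.b (2, true) := aa_of_ne (by decide) (by decide) (by decide)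
  have a1' : h1 (Fr.b (0, true)) ≠ Fr.b (0, true) := by
    change aa Fr 0 1 s _ ≠ _
    rw [aa_true (by decide) hs, Ne, smul_eq_self_iff (b_ne_zero _)]
    exact hs1
  have σ1 : ∀ {c : F}, c ≠ 1 → H.σ c ≠ 1 := by
    intro c hc h
    apply hc
    have h3 := congrArg H.σ h
    rwa [H.σσ, map_one] at h3
  have a2 : ∀ x, h2 (Fr.b x) ≠ Fr.b x := by
    rintro ⟨k, b⟩
    change (aa Fr 0 1 s * aa Fr 1 2 t) _ ≠ _
    rw [mul_apply']
    fin_cases k
    · -- `0`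
      have e1 : aa Fr 1 2 t (Fr.b (0, b)) = Fr.b (0, b) :=
        aa_of_ne (by decide) (show (0 : Fin 3) ≠ 1 by decide) (show (0 : Fin 3) ≠ 2 by decide)
      change aa Fr 0 1 s (aa Fr 1 2 t (Fr.b (0, b))) ≠ Fr.b (0, b)
      rw [e1]
      cases b
      · rw [aa_neg_false (by decide) hs, Ne, smul_eq_self_iff (b_ne_zero _), inv_eq_one]
        exact σ1 hs1
      · rw [aa_true (by decide) hs, Ne, smul_eq_self_iff (b_ne_zero _)]
        exact hs1
    · -- `1`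
      change aa Fr 0 1 s (aa Fr 1 2 t (Fr.b (1, b))) ≠ Fr.b (1, b)
      cases b
      · rw [aa_neg_false (by decide) ht, map_smul, aa_false (by decide) hs, smul_smul, Ne,
          smul_eq_self_iff (b_ne_zero _)]
        intro h
        have h3 : H.σ t ≠ 0 := by simpa using ht
        rw [inv_mul_eq_one₀ h3] at h
        exact hst (by
          have h4 := congrArg H.σ h
          rw [H.σσ, H.σσ] at h4
          exact h4.symm)
      · rw [aa_true (by decide) ht, map_smul, aa_neg_true (by decide) hs, smul_smul, Ne,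
          smul_eq_self_iff (b_ne_zero _)]
        intro h
        rw [mul_inv_eq_one₀ hs] at h
        exact hst h.symm
    · -- `2`
      change aa Fr 0 1 s (aa Fr 1 2 t (Fr.b (2, b))) ≠ Fr.b (2, b)
      have e1 : aa Fr 0 1 s (Fr.b (2, b)) = Fr.b (2, b) :=
        aa_of_ne (by decide) (show (2 : Fin 3) ≠ 0 by decide) (show (2 : Fin 3) ≠ 1 by decide)
      cases b
      · rw [aa_false (by decide) ht, map_smul, e1, Ne, smul_eq_self_iff (b_ne_zero _)]
        exact σ1 ht1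
      · rw [aa_neg_true (by decide) ht, map_smul, e1, Ne, smul_eq_self_iff (b_ne_zero _), inv_eq_one]
        exact ht1
  -- the family
  let hh : Fin 3 → V ≃ₗ[F] V := ![1, h1, h2]
  have mm : ∀ i, hh i ∈ Tor Fr M.I := by
    intro i
    fin_cases i
    · exact one_mem _
    · exact m1
    · exact m2
  have ff : ∀ i, ∀ v ∈ Fr.V0, hh i v = v := by
    intro i
    fin_cases i
    · exact f0
    · exact f1
    · exact f2
  have key : ∀ i j, i ≠ j → ¬ ∃ π : Equiv.Perm (Fin 3 × Bool), ∀ y, hh j (Fr.b (π y)) = Fr.b (π y) ↔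
      hh i (Fr.b y) = Fr.b y := by
    rintro i j hij ⟨π, hπ⟩
    have hall : (∀ x, hh j (Fr.b x) = Fr.b x) ↔ ∀ x, hh i (Fr.b x) = Fr.b x := by
      constructor
      · exact fun h x => (hπ x).1 (h _)
      · intro h x
        obtain ⟨y, rfl⟩ := π.surjective x
        exact (hπ y).2 (h y)
    have hex : (∃ x, hh j (Fr.b x) = Fr.b x) ↔ ∃ x, hh i (Fr.b x) = Fr.b x := by
      constructor
      · rintro ⟨x, hx⟩
        obtain ⟨y, rfl⟩ := π.surjective x
        exact ⟨y, (hπ y).1 hx⟩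
      · rintro ⟨y, hy⟩
        exact ⟨π y, (hπ y).2 hy⟩
    have n0 : ∀ x, hh 0 (Fr.b x) = Fr.b x := a0
    have n1 : ¬ ∀ x, hh 1 (Fr.b x) = Fr.b x := fun h => a1' (h _)
    have n1' : ∃ x, hh 1 (Fr.b x) = Fr.b x := ⟨_, a1⟩
    have n2 : ¬ ∃ x, hh 2 (Fr.b x) = Fr.b x := fun ⟨x, hx⟩ => a2 x hx
    fin_cases i <;> fin_cases j
    · exact hij rfl
    · exact n1 (hall.2 n0)
    · exact n2 (hex.2 ⟨(0, true), n0 _⟩)
    · exact n1 (hall.1 n0)
    · exact hij rfl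
    · exact n2 (hex.2 n1')
    · exact n2 (hex.1 ⟨(0, true), n0 _⟩)
    · exact n2 (hex.1 n1')
    · exact hij rfl
  refine ⟨fun i => ⟨M.φ ⟨hh i, (mm i).1⟩, Subgroup.mem_map_of_mem _ (Subgroup.mem_subgroupOf.2 (mm i))⟩, ?_⟩
  intro i j hij x hx e
  obtain ⟨⟨g, hgI⟩, hg, rfl⟩ := NN_le M hA hp0 cs hN hx
  exact key i j hij (exists_perm_of_conj M hA (Subgroup.mem_subgroupOf.1 hg) (mm i).1 (mm j).1 (ff i) (ff j) hv0 hne e)

end three

/-- **Witt frames of rank three with `V0 ≠ ⊥`, characteristic two.** -/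
theorem good5_witt' {F : Type*} [Field F] [Finite F] {V : Type*} [AddCommGroup V] [Module F V] {H : HForm F V}
    {Fr : Frame H (Fin 3)} {K : Type*} [Group K] [Finite K] (M : Model Fr K) (hA : AmbT Fr 2 M.I) (hV0 : Fr.V0 ≠ ⊥)
    [Finite V] [CharP F 2] {p0 : Fr.Adm} (hp0 : p0.c ≠ 0) (h4 : 4 ≤ Nat.card F) (hT : H601.OddDeg.TwoC K) :
    Good5 K := by
  classical
  have : Fact (Nat.Prime 2) := ⟨Nat.prime_two⟩
  let cs := (CoxeterMatrix.B 3).toCoxeterSystem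
  have hW : Finite (CoxeterMatrix.B 3).Group := Nodes.TypeC.finite_W cs
  have R := WittAll.rgdC_model M hA hp0 cs
  have hG := gg_of_g1 (T := WittModel.T M) (WittModel.G1_eq_top M (by norm_num) cs)
  have h12 : (CoxeterMatrix.B 3) 0 1 = 3 := by decide
  have := Fintype.ofFinite (WittModel.T M)
  -- two scalars
  obtain ⟨s, t, hs, ht, hs1, ht1, hst⟩ : ∃ s t : F, s ≠ 0 ∧ t ≠ 0 ∧ s ≠ 1 ∧ t ≠ 1 ∧ s ≠ t := by
    have := Fintype.ofFinite F
    rw [Nat.card_eq_fintype_card] at h4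
    have h5 : 1 < (Finset.univ \ {0, 1} : Finset F).card := by
      have h6 := Finset.le_card_sdiff ({0, 1} : Finset F) Finset.univ
      have h7 : ({0, 1} : Finset F).card ≤ 2 := Finset.card_le_two
      rw [Finset.card_univ] at h6
      omega
    obtain ⟨s, hs, t, ht, hst⟩ := Finset.one_lt_card.1 h5
    simp only [Finset.mem_sdiff, Finset.mem_univ, true_and, Finset.mem_insert, Finset.mem_singleton, not_or] at hs ht
    exact ⟨s, t, hs.1, ht.1, hs.2, ht.2, hst⟩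
  obtain ⟨u, hu⟩ := exists_three M hA hp0 cs R.nsys hV0 hs ht hs1 ht1 hst
  obtain ⟨Λ, hΛ, hL⟩ := lamSet_of_elts R hG u hu
  have n1 : (0 : Fin 3) ≠ 1 := by decide
  have e1 : ({0} : Set (Fin 3)).ncard = 1 := Set.ncard_singleton 0
  have e2 : ({0, 1} : Set (Fin 3)).ncard = 2 := Set.ncard_pair n1
  have d1 : ({0} : Set (Fin 3)) ≠ {0, 1} := fun e => by rw [e, e2] at e1; omega
  refine good5_of R hG hT {{0}, {0, 1}} ?_ ?_ hL ?_
  · intro J hJ
    simp only [Finset.mem_insert, Finset.mem_singleton] at hJ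
    rcases hJ with rfl | rfl
    · exact ⟨⟨0, rfl⟩, oc_node R 0 1 h12⟩
    · exact ⟨⟨0, Or.inl rfl⟩, oc_two R h12⟩
  · intro J hJ L hL hJL hA
    have hc := le_antisymm hA.1.ncard hA.2.ncard
    simp only [Finset.mem_insert, Finset.mem_singleton] at hJ hL
    rcases hJ with rfl | rfl <;> rcases hL with rfl | rfl
    · exact hJL rfl
    · rw [e1, e2] at hc
      omega
    · rw [e1, e2] at hc
      omega
    · exact hJL rfl
  · rw [hΛ, Finset.card_insert_of_notMem (by simp [d1]), Finset.card_singleton]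

/-- **`PSU₇(q)`, `q` even.** -/
theorem good5_psu_seven {S : Type u} [Group S] [Finite S] [IsSimpleGroup S] {F : Type} [Field F] [Fintype F]
    [CharP F 2] {q : ℕ} (hF : Fintype.card F = q ^ 2) (e : S ≃* PSU 7 F q) (hT : H601.OddDeg.TwoC S) : Good5 S := by
  have : Fact (Nat.Prime 2) := ⟨Nat.prime_two⟩
  have hfin : Finite (PSU 7 F q) := Finite.of_equiv S e.toEquiv
  obtain ⟨W, d, hd, hW⟩ := KSideU.exists_wframe_odd hF (N := 7) (m := 3) rfl
  obtain ⟨p0, hp0, -⟩ := exists_adm hF W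
  have hne : (toFrame W).V0 ≠ ⊥ := by
    change W.V0 ≠ ⊥
    rw [hW, Ne, Submodule.span_singleton_eq_bot]
    rintro rfl
    rw [LieClassical.HermBasic.herm_zero_left] at hd
    exact zero_ne_one hd
  have h4 : 4 ≤ Nat.card F := by
    rw [Nat.card_eq_fintype_card, hF]
    have h1 : 1 < Fintype.card F := Fintype.one_lt_card
    rw [hF] at h1
    have h2 : 2 ≤ q := by
      by_contra h3
      have : q = 0 ∨ q = 1 := by omega
      rcases this with rfl | rfl <;> norm_num at h1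
    nlinarith
  exact H740.K4.good5_of_equiv e (good5_witt' (KInstU.model hF (by norm_num) W) (AmbT.of_amb (amb_U hF W) 2) hne hp0
    h4 (hT.congr e))

end Cfsg.Agent.H726.Four
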