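import Cfsg.Agent.H726.Four.TSer

/-!
# Orbits on the elements and on the characters of a subgroup (helper726, TEAM K4)

`T ≤ N ≤ N_G(T)`.

* `exists_orb` : `m` elements of `T` pairwise not `N`-conjugate give `m` irreducible characters of `T` pairwise not
  `N`-conjugate;
* `exists_elts₂`, `exists_elts₃` : counting: `m` pairwise not `N`-conjugate elements if `1 + (m - 2) k < |T|`, or
  `1 + k₁ + (m - 3) k < |T|`.
-/

set_option autoImplicit false
set_option linter.unusedSectionVars false

open scoped ComplexConjugate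
open Cfsg

namespace Cfsg.Agent.H726.Four

open Cfsg.Agent.Characters.Core

universe u

section count

theorem card_le_classes {X Q : Type*} [Fintype X] [Fintype Q] [DecidableEq Q] (f : X → Q) (A : Finset Q) (k : ℕ)
    (hk : ∀ q, (Finset.univ.filter fun x => f x = q).card ≤ k) :
    Fintype.card X ≤ ∑ q ∈ A, (Finset.univ.filter fun x => f x = q).card + (Fintype.card Q - A.card) * k := by
  have h1 : Fintype.card X = ∑ q : Q, (Finset.univ.filter fun x => f x = q).card := by
    rw [← Finset.card_univ]
    exact Finset.card_eq_sum_card_fiberwise fun x _ => Finset.mem_coe.2 (Finset.mem_univ (f x))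
  rw [h1, ← Finset.sum_add_sum_compl A, ← Finset.card_compl]
  refine Nat.add_le_add_left ?_ _
  calc _ ≤ ∑ _q ∈ Aᶜ, k := Finset.sum_le_sum fun q _ => hk q
    _ = _ := by rw [Finset.sum_const, smul_eq_mul]

/-- choose representatives -/
theorem exists_reps {X : Type*} [Finite X] (r : Setoid X) {m : ℕ} (h : m ≤ Nat.card (Quotient r)) :
    ∃ f : Fin m → X, ∀ i j, i ≠ j → ¬ r (f i) (f j) := by
  have : Fintype (Quotient r) := Fintype.ofFinite _
  rw [Nat.card_eq_fintype_card] at h
  obtain ⟨e⟩ := Function.Embedding.nonempty_of_card_le (α := Fin m) (β := Quotient r) (by rwa [Fintype.card_fin])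
  refine ⟨fun i => (e i).out, fun i j hij hr => hij (e.injective ?_)⟩
  rw [← Quotient.out_eq (e i), ← Quotient.out_eq (e j)]
  exact Quotient.sound hr

end count

section
variable {G : Type u} [Group G]

/-- `N`-conjugacy on `T` -/
def nrel (T N : Subgroup G) : Setoid T where
  r t t' := ∃ x ∈ N, x * t * x⁻¹ = (t' : G)
  iseqv :=
    { refl := fun t => ⟨1, one_mem N, by group⟩
      symm := by
        rintro t t' ⟨x, hx, e⟩
        refine ⟨x⁻¹, inv_mem hx, ?_⟩
        rw [← e]
        group
      trans := by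
        rintro t t' t'' ⟨x, hx, e⟩ ⟨y, hy, e'⟩
        refine ⟨y * x, mul_mem hy hx, ?_⟩
        rw [← e', ← e]
        group }

theorem nrel_iff {T N : Subgroup G} {t t' : T} : nrel T N t t' ↔ ∃ x ∈ N, x * t * x⁻¹ = (t' : G) := Iff.rfl

theorem card_class_le [Finite G] {T N D : Subgroup G} (hN : N ≤ Subgroup.normalizer (T : Set G)) (t : T)
    (hD : ∀ d ∈ D, d * t = t * d) : Nat.card {t' : T // nrel T N t t'} ≤ D.relIndex N := by
  let f : N ⧸ D.subgroupOf N → {t' : T // nrel T N t t'} := fun q => Quotient.liftOn' q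
    (fun x => ⟨⟨x * t * x⁻¹, (Subgroup.mem_normalizer_iff.1 (hN x.2) _).1 t.2⟩, x, x.2, rfl⟩) (by
      intro x y hxy
      have h1 : (x : G)⁻¹ * y ∈ D := Subgroup.mem_subgroupOf.1 (QuotientGroup.leftRel_apply.1 hxy)
      have h2 := hD _ h1
      apply Subtype.ext
      apply Subtype.ext
      change (x : G) * t * (x : G)⁻¹ = y * t * (y : G)⁻¹
      have h3 : (y : G) * t = x * (t * ((x : G)⁻¹ * y)) := by
        rw [← h2]
        group
      rw [h3]
      group)
  have hf : Function.Surjective f := by
    rintro ⟨t', x, hx, e⟩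
    refine ⟨QuotientGroup.mk ⟨x, hx⟩, ?_⟩
    apply Subtype.ext
    apply Subtype.ext
    exact e
  exact Nat.card_le_card_of_surjective f hf

theorem filter_class_le [Finite G] [Fintype G] {T N D : Subgroup G} [Fintype T] (hN : N ≤ Subgroup.normalizer (T : Set G)) (t : T)
    (hD : ∀ d ∈ D, d * t = t * d) [DecidableEq (Quotient (nrel T N))] :
    (Finset.univ.filter fun x : T => (Quotient.mk (nrel T N) x) = Quotient.mk (nrel T N) t).card ≤ D.relIndex N := by
  have h1 := card_class_le hN t hD
  rw [← Fintype.card_subtype, ← Nat.card_eq_fintype_card]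
  refine le_trans (le_of_eq (Nat.card_congr (Equiv.subtypeEquivRight fun x => ?_))) h1
  rw [eq_comm]
  exact Quotient.eq (r := nrel T N)

/-- **Counting.** -/
theorem exists_elts₂ [Finite G] {T N C : Subgroup G} (hN : N ≤ Subgroup.normalizer (T : Set G))
    (hC : ∀ c ∈ C, ∀ t ∈ T, c * t = t * c) {m : ℕ} (hm : 2 ≤ m) (h : 1 + (m - 2) * C.relIndex N < Nat.card T) :
    ∃ t : Fin m → T, ∀ i j, i ≠ j → ∀ x ∈ N, x * t i * x⁻¹ ≠ (t j : G) := by
  classical
  have := Fintype.ofFinite G
  have := Fintype.ofFinite T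
  have := Fintype.ofFinite (Quotient (nrel T N))
  have hk : ∀ q : Quotient (nrel T N), (Finset.univ.filter fun x : T => (Quotient.mk (nrel T N) x) = q).card ≤
      C.relIndex N := by
    intro q
    obtain ⟨t, rfl⟩ := Quotient.exists_rep q
    exact filter_class_le hN t fun d hd => hC d hd t t.2
  have h1 := card_le_classes (fun x : T => Quotient.mk (nrel T N) x) {Quotient.mk (nrel T N) 1} (C.relIndex N) hk
  rw [Finset.sum_singleton, Finset.card_singleton, ← Nat.card_eq_fintype_card] at h1
  have h2 := filter_class_le (D := N) hN 1 (fun d _ => by rw [Subgroup.coe_one, mul_one, one_mul])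
  rw [Subgroup.relIndex_self] at h2
  have h3 : m ≤ Nat.card (Quotient (nrel T N)) := by
    rw [Nat.card_eq_fintype_card]
    by_contra hcon
    have h4 : Fintype.card (Quotient (nrel T N)) - 1 ≤ m - 2 := by omega
    have h5 := Nat.mul_le_mul_right (C.relIndex N) h4
    omega
  obtain ⟨t, ht⟩ := exists_reps _ h3
  exact ⟨t, fun i j hij x hx e => ht i j hij ⟨x, hx, e⟩⟩

/-- **Counting**, with a non-trivial element having a small orbit. -/
theorem exists_elts₃ [Finite G] {T N C D : Subgroup G} (hN : N ≤ Subgroup.normalizer (T : Set G))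
    (hC : ∀ c ∈ C, ∀ t ∈ T, c * t = t * c) {t₁ : G} (ht₁ : t₁ ∈ T) (hne : t₁ ≠ 1) (hD : ∀ d ∈ D, d * t₁ = t₁ * d)
    {m : ℕ} (hm : 3 ≤ m) (h : 1 + D.relIndex N + (m - 3) * C.relIndex N < Nat.card T) :
    ∃ t : Fin m → T, ∀ i j, i ≠ j → ∀ x ∈ N, x * t i * x⁻¹ ≠ (t j : G) := by
  classical
  have := Fintype.ofFinite G
  have := Fintype.ofFinite T
  have := Fintype.ofFinite (Quotient (nrel T N))
  have hk : ∀ q : Quotient (nrel T N), (Finset.univ.filter fun x : T => (Quotient.mk (nrel T N) x) = q).card ≤
      C.relIndex N := by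
    intro q
    obtain ⟨t, rfl⟩ := Quotient.exists_rep q
    exact filter_class_le hN t fun d hd => hC d hd t t.2
  have hq : Quotient.mk (nrel T N) 1 ≠ Quotient.mk (nrel T N) ⟨t₁, ht₁⟩ := by
    intro e
    obtain ⟨x, -, hx⟩ := Quotient.exact e
    apply hne
    rw [Subgroup.coe_one, mul_one, mul_inv_cancel] at hx
    exact hx.symm
  have h1 := card_le_classes (fun x : T => Quotient.mk (nrel T N) x)
    {Quotient.mk (nrel T N) 1, Quotient.mk (nrel T N) ⟨t₁, ht₁⟩} (C.relIndex N) hk
  rw [Finset.sum_pair hq, Finset.card_pair hq, ← Nat.card_eq_fintype_card] at h1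
  have h2 := filter_class_le (D := N) hN 1 (fun d _ => by rw [Subgroup.coe_one, mul_one, one_mul])
  have h2' := filter_class_le (D := D) hN ⟨t₁, ht₁⟩ hD
  rw [Subgroup.relIndex_self] at h2
  have h3 : m ≤ Nat.card (Quotient (nrel T N)) := by
    rw [Nat.card_eq_fintype_card]
    by_contra hcon
    have h4 : Fintype.card (Quotient (nrel T N)) - 2 ≤ m - 3 := by omega
    have h5 := Nat.mul_le_mul_right (C.relIndex N) h4
    omega
  obtain ⟨t, ht⟩ := exists_reps _ h3
  exact ⟨t, fun i j hij x hx e => ht i j hij ⟨x, hx, e⟩⟩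

/-- `N`-conjugacy on the irreducible characters of `T` -/
def crel {T N : Subgroup G} (hN : N ≤ Subgroup.normalizer (T : Set G)) : Setoid (IrrCharacter T) where
  r θ θ' := ∃ x, ∃ hx : x ∈ N, (θ : T → ℂ) = (θ' : T → ℂ) ∘ cT T x (hN hx)
  iseqv :=
    { refl := fun θ => ⟨1, one_mem N, by
        funext t
        rw [Function.comp_apply]
        refine congrArg (θ : T → ℂ) (Subtype.ext ?_)
        rw [cT_coe]
        group⟩
      symm := by
        rintro θ θ' ⟨x, hx, e⟩
        refine ⟨x⁻¹, inv_mem hx, ?_⟩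
        rw [e]
        funext t
        rw [Function.comp_apply, Function.comp_apply]
        refine congrArg (θ' : T → ℂ) (Subtype.ext ?_)
        rw [cT_coe, cT_coe]
        group
      trans := by
        rintro θ θ' θ'' ⟨x, hx, e⟩ ⟨y, hy, e'⟩
        refine ⟨x * y, mul_mem hx hy, ?_⟩
        rw [e, e']
        funext t
        rw [Function.comp_apply, Function.comp_apply, Function.comp_apply]
        refine congrArg (θ'' : T → ℂ) (Subtype.ext ?_)
        rw [cT_coe, cT_coe, cT_coe]
        group }

open Classical in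
/-- the sums over the classes -/
noncomputable def sm {T N : Subgroup G} [Fintype T] : (T → ℂ) →ₗ[ℂ] (Quotient (nrel T N) → ℂ) where
  toFun f k := ∑ t : T, if Quotient.mk (nrel T N) t = k then f t else 0
  map_add' f f' := by
    funext k
    rw [Pi.add_apply, ← Finset.sum_add_distrib]
    refine Finset.sum_congr rfl fun t _ => ?_
    by_cases h1 : Quotient.mk (nrel T N) t = k
    · rw [if_pos h1, if_pos h1, if_pos h1, Pi.add_apply]
    · rw [if_neg h1, if_neg h1, if_neg h1, add_zero]
  map_smul' a f := by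
    funext k
    rw [Pi.smul_apply, RingHom.id_apply, smul_eq_mul, Finset.mul_sum]
    refine Finset.sum_congr rfl fun t _ => ?_
    by_cases h1 : Quotient.mk (nrel T N) t = k
    · rw [if_pos h1, if_pos h1, Pi.smul_apply, smul_eq_mul]
    · rw [if_neg h1, if_neg h1, mul_zero]

open Classical in
theorem sm_apply {T N : Subgroup G} [Fintype T] (f : T → ℂ) (k : Quotient (nrel T N)) :
    sm f k = ∑ t : T, if Quotient.mk (nrel T N) t = k then f t else 0 := rfl

theorem sm_comp {T N : Subgroup G} [Fintype T] (hN : N ≤ Subgroup.normalizer (T : Set G)) (f : T → ℂ) {x : G}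
    (hx : x ∈ N) : sm (N := N) (f ∘ cT T x (hN hx)) = sm f := by
  classical
  funext k
  rw [sm_apply, sm_apply]
  have hb : Function.Bijective (cT T x (hN hx)) :=
    Finite.surjective_iff_bijective.1 (cT_surj T (hN hx))
  refine Fintype.sum_bijective _ hb _ _ fun t => ?_
  have e : Quotient.mk (nrel T N) (cT T x (hN hx) t) = Quotient.mk (nrel T N) t := by
    refine Quotient.sound ⟨x, hx, ?_⟩
    rw [cT_coe]
    group
  rw [e, Function.comp_apply]

/-- **There are at least as many orbits on characters as on elements.** -/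
theorem exists_orb [Finite G] {T N : Subgroup G} (hT : T ≤ N) (hN : N ≤ Subgroup.normalizer (T : Set G)) {m : ℕ}
    (t : Fin m → T) (ht : ∀ i j, i ≠ j → ∀ x ∈ N, x * t i * x⁻¹ ≠ (t j : G)) :
    ∃ lam : Fin m → T → ℂ, (∀ i, IsIrrCharacter T (lam i)) ∧
      ∀ i j, i ≠ j → ∀ x (hx : x ∈ N), lam i ≠ lam j ∘ cT T x (hN hx) := by
  classical
  have := Fintype.ofFinite T
  have : Finite (IrrCharacter T) := finite_irr
  have := Fintype.ofFinite (IrrCharacter T)
  have := Fintype.ofFinite (Quotient (nrel T N))
  have := Fintype.ofFinite (Quotient (crel hN))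
  -- the spanning family
  let F : Quotient (crel hN) → (Quotient (nrel T N) → ℂ) := fun q => Quotient.liftOn q
    (fun θ => sm (θ : T → ℂ)) (by
      rintro θ θ' ⟨x, hx, e⟩
      change sm (θ : T → ℂ) = sm (θ' : T → ℂ)
      rw [e, sm_comp hN _ hx])
  have hF : ∀ θ : IrrCharacter T, F (Quotient.mk _ θ) = sm (θ : T → ℂ) := fun θ => rfl
  have hsp : ⊤ ≤ Submodule.span ℂ (Set.range F) := by
    intro v _
    -- a class function with the given sums
    let f : T → ℂ := fun t => v (Quotient.mk _ t) *
      ((Finset.univ.filter fun s : T => Quotient.mk (nrel T N) s = Quotient.mk (nrel T N) t).card : ℂ)⁻¹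
    have hf : IsClassFunction T f := by
      intro a b
      have e : Quotient.mk (nrel T N) (b * a * b⁻¹) = Quotient.mk (nrel T N) a := by
        refine Quotient.sound ⟨(b : G)⁻¹, inv_mem (hT b.2), ?_⟩
        push_cast
        group
      change v _ * _ = v _ * _
      rw [e]
    have h1 : sm f = v := by
      funext k
      obtain ⟨s, rfl⟩ := Quotient.exists_rep k
      rw [sm_apply, ← Finset.sum_filter]
      have h2 : ∀ t ∈ Finset.univ.filter (fun t : T => Quotient.mk (nrel T N) t = Quotient.mk (nrel T N) s),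
          f t = v (Quotient.mk _ s) *
            ((Finset.univ.filter fun t : T => Quotient.mk (nrel T N) t = Quotient.mk (nrel T N) s).card : ℂ)⁻¹ := by
        intro t ht
        have h3 := (Finset.mem_filter.1 ht).2
        change v _ * _ = _
        rw [h3]
      rw [Finset.sum_congr rfl h2, Finset.sum_const, nsmul_eq_mul]
      have h4 : ((Finset.univ.filter fun t : T => Quotient.mk (nrel T N) t = Quotient.mk (nrel T N) s).card : ℂ) ≠ 0 := by
        rw [Nat.cast_ne_zero]
        refine (Finset.card_pos.2 ⟨s, ?_⟩).ne'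
        rw [Finset.mem_filter]
        exact ⟨Finset.mem_univ _, rfl⟩
      field_simp
    rw [← h1, classFunction_eq_sum hf, map_sum]
    refine Submodule.sum_mem _ fun θ _ => ?_
    rw [map_smul, ← hF]
    exact Submodule.smul_mem _ _ (Submodule.subset_span ⟨_, rfl⟩)
  have hcard : Fintype.card (Quotient (nrel T N)) ≤ Fintype.card (Quotient (crel hN)) := by
    have h1 := finrank_range_le_card (R := ℂ) F
    rw [Set.finrank, top_le_iff.1 hsp, finrank_top, Module.finrank_fintype_fun_eq_card] at h1
    exact h1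
  have hm : m ≤ Fintype.card (Quotient (nrel T N)) := by
    have h1 : Function.Injective fun i : Fin m => Quotient.mk (nrel T N) (t i) := by
      intro i j e
      by_contra hij
      obtain ⟨x, hx, e'⟩ := Quotient.exact e
      exact ht i j hij x hx e'
    have h2 := Fintype.card_le_of_injective _ h1
    rwa [Fintype.card_fin] at h2
  obtain ⟨θ, hθ⟩ := exists_reps (crel hN) (m := m) (by
    rw [Nat.card_eq_fintype_card]
    exact hm.trans hcard)
  exact ⟨fun i => (θ i : T → ℂ), fun i => (θ i).2, fun i j hij x hx e => hθ i j hij ⟨x, hx, e⟩⟩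

end

end Cfsg.Agent.H726.Four
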