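import Cfsg.Agent.H726.Four.Series
import Cfsg.Agent.H519.Dl.RankTwo

/-!
# The principal series of a root group datum of characteristic two (helper726, TEAM K4)

`R : RGD cs h 2 T n X`, `GG = ⊤`.

* `sb_of_rgd` : the abstract split Borel subgroup `SB U T NN`;
* `rgd_of_elts`, `rgd_of_card`, `rgd_of_card₃`, `rgd_of_node` : `m` different `σ`-fixed irreducible characters of odd
  degree and of Harish-Chandra type `∅`, from elements of `T` pairwise not conjugate under the Weyl group, or from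
  `1 + (m - 2) |W : W₀| < |T|` (`W₀` acting trivially on `T`), or `1 + |W : W₁| + (m - 3) |W : W₀| < |T|` (`W₁` fixing an
  element `t₁ ≠ 1`), or `1 + |W| / 2 + (m - 3) |W| < |T|` if `T` is abelian and not contained in `M_i`.
-/

set_option autoImplicit false
set_option linter.unusedSectionVars false

open scoped ComplexConjugate
open Cfsg

namespace Cfsg.Agent.H726.Four

open Cfsg.Agent.OddOrderCharacters.Clifford Cfsg.Agent.Characters Cfsg.Agent.H601.K4 Cfsg.Agent.H967.K4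
  Cfsg.Agent.H246.Dl
open CoxeterSystem Cfsg.Agent.ChevalleyStructure.CoxeterGeom Cfsg.Agent.Tits.Roots Cfsg.Agent.Tits.Core
  Cfsg.Agent.Tits.Exchange Cfsg.Agent.Nodes.Reps Cfsg.Agent.Nodes.BNOf Cfsg.Agent.Nodes.StabComb
  Cfsg.Agent.Nodes.Bruhat Cfsg.Agent.Nodes.OppDec Cfsg.Agent.Nodes.LeviDec Cfsg.Agent.H53.HC

universe u v w

section weyl

variable {I : Type v} {W : Type w} {Y : Type u} [Group W] [Group Y] {M : CoxeterMatrix I}
  {cs : CoxeterSystem M W} {T : Subgroup Y} {n : I → Y} {hN : NSys M T n}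

/-- the elements of `N` over `W₀ ≤ W` -/
def NW (cs : CoxeterSystem M W) (hN : NSys M T n) (W₀ : Subgroup W) : Subgroup Y where
  carrier := {g | ∃ w ∈ W₀, Rp cs hN w g}
  mul_mem' := by
    rintro a b ⟨v, hv, hv'⟩ ⟨w, hw, hw'⟩
    exact ⟨v * w, mul_mem hv hw, hv'.mul hw'⟩
  one_mem' := ⟨1, one_mem _, rp_one⟩
  inv_mem' := by
    rintro a ⟨v, hv, hv'⟩
    exact ⟨v⁻¹, inv_mem hv, hv'.inv⟩

theorem mem_NW {W₀ : Subgroup W} {g : Y} : g ∈ NW cs hN W₀ ↔ ∃ w ∈ W₀, Rp cs hN w g := Iff.rfl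

theorem relIndex_NW_le [Finite W] (W₀ : Subgroup W) : (NW cs hN W₀).relIndex (NN cs hN) ≤ W₀.index := by
  choose r hr using exists_rp cs hN
  let f : W ⧸ W₀ → NN cs hN ⧸ (NW cs hN W₀).subgroupOf (NN cs hN) := fun q => Quotient.liftOn' q
    (fun w => QuotientGroup.mk (⟨r w, w, hr w⟩ : NN cs hN)) (by
      intro v w hvw
      refine QuotientGroup.eq.2 ?_
      rw [Subgroup.mem_subgroupOf]
      exact ⟨v⁻¹ * w, QuotientGroup.leftRel_apply.1 hvw, (hr v).inv.mul (hr w)⟩)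
  have hf : Function.Surjective f := by
    intro q
    obtain ⟨⟨g, w, hw⟩, rfl⟩ := QuotientGroup.mk_surjective q
    refine ⟨QuotientGroup.mk w, ?_⟩
    refine QuotientGroup.eq.2 ?_
    rw [Subgroup.mem_subgroupOf]
    refine ⟨1, one_mem _, ?_⟩
    have h1 := (hr w).inv.mul hw
    rwa [inv_mul_cancel] at h1
  exact Nat.card_le_card_of_surjective f hf

end weyl

section rgd

variable {I : Type v} {W : Type w} {Y : Type u} [Fintype I] [DecidableEq I] [Group W] [Group Y] {M : CoxeterMatrix I}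
  {cs : CoxeterSystem M W} {A : I → I → ℤ} {h : IsCartan M A} {T : Subgroup Y} {n : I → Y}
  {X : (I → ℤ) → Subgroup Y}

variable (R : RGD cs h 2 T n X)

include R

/-- **The split Borel subgroup of a root group datum of characteristic two.** -/
theorem sb_of_rgd [Finite W] [Finite Y] (hG : GG cs h T X = ⊤) :
    SB (RGD.Sup X (RGD.Pos cs h)) T (NN cs R.nsys) := by
  have hB : RGD.B cs h T X ≤ RGD.Sup X (RGD.Pos cs h) ⊔ T := by
    rw [sup_comm]
    exact le_rfl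
  refine ⟨R.T_le_normalizer_U, fun x => T_inf_U R, fun t ht => ⟨1, rp_of_mem ht⟩, ?_, ?_, ?_,
    odd_index_of_le R hG le_sup_left⟩
  · rintro g ⟨w, hw⟩
    exact hw.mem_normalizer
  · intro x
    obtain ⟨w, b₁, hb₁, k, hk, b₂, hb₂, e⟩ := (mem_GG R).1 (show x ∈ GG cs h T X by rw [hG]; exact Subgroup.mem_top x)
    exact ⟨b₁, hB hb₁, k, ⟨w, hk⟩, b₂, hB hb₂, e⟩
  · rw [← Nat.coprime_two_right]
    exact R.tcop

/-- **Characters of type `∅` from elements of `T`.** -/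
theorem rgd_of_elts [Finite W] [Finite Y] (hG : GG cs h T X = ⊤) {m : ℕ} (t : Fin m → T)
    (ht : ∀ i j, i ≠ j → ∀ x ∈ NN cs R.nsys, x * t i * x⁻¹ ≠ (t j : Y)) :
    ∃ χ : Fin m → Y → ℂ, Function.Injective χ ∧ ∀ i, OddIrr (χ i) ∧ SF (χ i) ∧ HT cs h X (χ i) ∅ := by
  obtain ⟨χ, h1, h2⟩ := (sb_of_rgd R hG).exists_of_elts t ht
  exact ⟨χ, h1, fun i => ⟨(h2 i).1, (h2 i).2.1, H519.Dl.HT.empty (h2 i).1.1 (h2 i).2.2⟩⟩

/-- the same for elements of `T` which are not conjugate in `Y` -/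
theorem rgd_of_conj [Finite W] [Finite Y] (hG : GG cs h T X = ⊤) {m : ℕ} (t : Fin m → T)
    (ht : ∀ i j, i ≠ j → ¬ IsConj (t i : Y) (t j : Y)) :
    ∃ χ : Fin m → Y → ℂ, Function.Injective χ ∧ ∀ i, OddIrr (χ i) ∧ SF (χ i) ∧ HT cs h X (χ i) ∅ :=
  rgd_of_elts R hG t fun i j hij x _ e => ht i j hij (isConj_iff.2 ⟨x, e⟩)

/-- **Characters of type `∅` by counting**; `W₀` acts trivially on `T`. -/
theorem rgd_of_card [Finite W] [Finite Y] (hG : GG cs h T X = ⊤) (W₀ : Subgroup W)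
    (hW : ∀ w ∈ W₀, ∀ g, Rp cs R.nsys w g → ∀ t ∈ T, g * t = t * g) {m : ℕ} (hm : 2 ≤ m)
    (hc : 1 + (m - 2) * W₀.index < Nat.card T) :
    ∃ χ : Fin m → Y → ℂ, Function.Injective χ ∧ ∀ i, OddIrr (χ i) ∧ SF (χ i) ∧ HT cs h X (χ i) ∅ := by
  have h1 : (NW cs R.nsys W₀).relIndex (NN cs R.nsys) ≤ W₀.index := relIndex_NW_le W₀
  have h2 := Nat.mul_le_mul_left (m - 2) h1
  obtain ⟨t, ht⟩ := exists_elts₂ (sb_of_rgd R hG).nT (C := NW cs R.nsys W₀) (by
    rintro c ⟨w, hw, hc⟩ t ht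
    exact hW w hw c hc t ht) hm (by omega)
  exact rgd_of_elts R hG t ht

/-- **Characters of type `∅` by counting**; `W₀` acts trivially on `T` and `W₁` fixes `t₁ ≠ 1`. -/
theorem rgd_of_card₃ [Finite W] [Finite Y] (hG : GG cs h T X = ⊤) (W₀ W₁ : Subgroup W)
    (hW : ∀ w ∈ W₀, ∀ g, Rp cs R.nsys w g → ∀ t ∈ T, g * t = t * g) {t₁ : Y} (ht₁ : t₁ ∈ T) (hne : t₁ ≠ 1)
    (hW₁ : ∀ w ∈ W₁, ∀ g, Rp cs R.nsys w g → g * t₁ = t₁ * g) {m : ℕ} (hm : 3 ≤ m)
    (hc : 1 + W₁.index + (m - 3) * W₀.index < Nat.card T) :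
    ∃ χ : Fin m → Y → ℂ, Function.Injective χ ∧ ∀ i, OddIrr (χ i) ∧ SF (χ i) ∧ HT cs h X (χ i) ∅ := by
  have h1 : (NW cs R.nsys W₀).relIndex (NN cs R.nsys) ≤ W₀.index := relIndex_NW_le W₀
  have h1' : (NW cs R.nsys W₁).relIndex (NN cs R.nsys) ≤ W₁.index := relIndex_NW_le W₁
  have h2 := Nat.mul_le_mul_left (m - 3) h1
  obtain ⟨t, ht⟩ := exists_elts₃ (sb_of_rgd R hG).nT (C := NW cs R.nsys W₀) (D := NW cs R.nsys W₁) (by
    rintro c ⟨w, hw, hc⟩ t ht
    exact hW w hw c hc t ht) ht₁ hne (by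
    rintro c ⟨w, hw, hc⟩
    exact hW₁ w hw c hc) hm (by omega)
  exact rgd_of_elts R hG t ht

omit R in
theorem comm_of_bot {hN : NSys M T n} (hT : ∀ a ∈ T, ∀ b ∈ T, a * b = b * a) (w : W) (hw : w ∈ (⊥ : Subgroup W))
    (g : Y) (hg : Rp cs hN w g) (t : Y) (ht : t ∈ T) : g * t = t * g := by
  rw [Subgroup.mem_bot] at hw
  rw [hw] at hg
  exact hT g hg.mem_of_one t ht

/-- **Characters of type `∅` by counting**, `T` abelian. -/
theorem rgd_of_abel [Finite W] [Finite Y] (hG : GG cs h T X = ⊤) (hT : ∀ a ∈ T, ∀ b ∈ T, a * b = b * a) {m : ℕ}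
    (hm : 2 ≤ m) (hc : 1 + (m - 2) * Nat.card W < Nat.card T) :
    ∃ χ : Fin m → Y → ℂ, Function.Injective χ ∧ ∀ i, OddIrr (χ i) ∧ SF (χ i) ∧ HT cs h X (χ i) ∅ := by
  refine rgd_of_card R hG ⊥ (comm_of_bot hT) hm ?_
  rwa [Subgroup.index_bot]

/-- an element of `T \ {1}` fixed by a simple reflection -/
theorem exists_fixed [Finite Y] (hT : ∀ a ∈ T, ∀ b ∈ T, a * b = b * a) (i : I) (hi : ¬ T ≤ MJ cs h X {i}) :
    ∃ t ∈ T, t ≠ 1 ∧ n i * t = t * n i := by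
  classical
  have hri : IsRoot cs h (sr i) := isRoot_sr cs h i
  have hmem : ∀ k, k ∉ ({i} : Set I) → (sr i : I → ℤ) k = 0 := by
    intro k hk
    have hk' : k ≠ i := hk
    simp [sr, hk']
  have hX : X (sr i) ≤ MJ cs h X {i} := RGD.le_Sup ⟨hri, hmem⟩
  have hX' : X (-sr i) ≤ MJ cs h X {i} := RGD.le_Sup ⟨hri.neg, fun k hk => by
    rw [Pi.neg_apply, hmem k hk, neg_zero]⟩
  -- a representative of the reflection in `M_i`
  obtain ⟨t₀, ht₀, hm₀⟩ : ∃ t₀ ∈ T, t₀ * n i ∈ MJ cs h X {i} := by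
    obtain ⟨u, hu, hu1⟩ : ∃ u ∈ X (-sr i), u ≠ 1 := by
      by_contra hcon
      push Not at hcon
      apply R.notp i
      have h1 : X (-sr i) ≤ X (sr i) := fun u hu => by
        rw [hcon u hu]
        exact one_mem _
      rw [sup_eq_left.2 h1]
      exact R.pgrp i
    obtain ⟨a, ha, t, ht, b, hb, e⟩ := R.rk1 i u hu hu1
    refine ⟨t, ht, ?_⟩
    have e1 : t * n i = a⁻¹ * u * b⁻¹ := by
      rw [e]
      group
    rw [e1]
    exact mul_mem (mul_mem (inv_mem (hX ha)) (hX' hu)) (inv_mem (hX hb))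
  -- the commutator map
  have hnT : ∀ t ∈ T, n i * t * (n i)⁻¹ ∈ T := fun t ht => (Subgroup.mem_normalizer_iff.1 (R.nsys.norm i) t).1 ht
  let φ : T →* T :=
    { toFun := fun t => ⟨(t : Y) * (n i * (t : Y)⁻¹ * (n i)⁻¹), mul_mem t.2 (hnT _ (inv_mem t.2))⟩
      map_one' := Subtype.ext (by simp)
      map_mul' := by
        intro a b
        apply Subtype.ext
        change (a : Y) * b * (n i * ((a : Y) * b)⁻¹ * (n i)⁻¹) =
          (a : Y) * (n i * (a : Y)⁻¹ * (n i)⁻¹) * ((b : Y) * (n i * (b : Y)⁻¹ * (n i)⁻¹))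
        have h1 : ((a : Y) * b)⁻¹ = (a : Y)⁻¹ * (b : Y)⁻¹ := by
          rw [hT a a.2 b b.2, mul_inv_rev]
        have h2 := hT b b.2 _ (hnT _ (inv_mem a.2))
        rw [h1]
        calc (a : Y) * b * (n i * ((a : Y)⁻¹ * (b : Y)⁻¹) * (n i)⁻¹)
            = a * (b * (n i * (a : Y)⁻¹ * (n i)⁻¹)) * (n i * (b : Y)⁻¹ * (n i)⁻¹) := by group
          _ = _ := by
            rw [h2]
            group }
  have hφ : ∀ t : T, (φ t : Y) = (t : Y) * (n i * (t : Y)⁻¹ * (n i)⁻¹) := fun t => rfl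
  have hφM : ∀ t : T, (φ t : Y) ∈ MJ cs h X {i} := by
    intro t
    have h1 : t₀⁻¹ * ((t : Y) * (t₀ * n i) * (t : Y)⁻¹ * (t₀ * n i)⁻¹) * t₀ ∈ MJ cs h X {i} := by
      have h2 : (t : Y) * (t₀ * n i) * (t : Y)⁻¹ ∈ MJ cs h X {i} :=
        (Subgroup.mem_normalizer_iff.1 (T_le_normalizer_MJ R {i} t.2) _).1 hm₀
      exact (Subgroup.mem_normalizer_iff''.1 (T_le_normalizer_MJ R {i} ht₀) _).1 (mul_mem h2 (inv_mem hm₀))
    have e : (φ t : Y) = t₀⁻¹ * ((t : Y) * (t₀ * n i) * (t : Y)⁻¹ * (t₀ * n i)⁻¹) * t₀ := by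
      rw [hφ]
      have h2 := hT t₀⁻¹ (inv_mem ht₀) t t.2
      calc (t : Y) * (n i * (t : Y)⁻¹ * (n i)⁻¹) = (t : Y) * t₀⁻¹ * t₀ * (n i * (t : Y)⁻¹ * (n i)⁻¹) := by group
        _ = t₀⁻¹ * (t : Y) * t₀ * (n i * (t : Y)⁻¹ * (n i)⁻¹) := by rw [h2]
        _ = _ := by group
    rw [e]
    exact h1
  by_contra hcon
  push Not at hcon
  apply hi
  have hinj : Function.Injective φ := by
    rw [injective_iff_map_eq_one]
    intro t ht
    by_contra hne
    refine hcon t t.2 (fun h1 => hne (Subtype.ext h1)) ?_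
    have h1 : (t : Y) * (n i * (t : Y)⁻¹ * (n i)⁻¹) = 1 := by
      rw [← hφ, ht, Subgroup.coe_one]
    have h2 : n i * (t : Y)⁻¹ * (n i)⁻¹ = (t : Y)⁻¹ := (eq_inv_of_mul_eq_one_right h1)
    have h3 : n i * (t : Y) * (n i)⁻¹ = t := by
      have h4 := congrArg (fun z => z⁻¹) h2
      simp only [mul_inv_rev, inv_inv] at h4
      rw [mul_assoc]
      exact h4
    calc n i * (t : Y) = n i * (t : Y) * (n i)⁻¹ * n i := by group
      _ = t * n i := by rw [h3]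
  have hsurj : Function.Surjective φ := Finite.injective_iff_surjective.1 hinj
  intro t ht
  obtain ⟨s, hs⟩ := hsurj ⟨t, ht⟩
  have h1 := hφM s
  rw [hs] at h1
  exact h1

/-- elements of `T` not conjugate under the Weyl group, `T` abelian and not contained in `M_i` -/
theorem exists_elts_of_node [Finite W] [Finite Y] (hG : GG cs h T X = ⊤) (hT : ∀ a ∈ T, ∀ b ∈ T, a * b = b * a)
    (i : I) (hi : ¬ T ≤ MJ cs h X {i}) {m : ℕ} (hm : 3 ≤ m)
    (hc : 1 + Nat.card W / 2 + (m - 3) * Nat.card W < Nat.card T) :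
    ∃ t : Fin m → T, ∀ i j, i ≠ j → ∀ x ∈ NN cs R.nsys, x * t i * x⁻¹ ≠ (t j : Y) := by
  obtain ⟨t₁, ht₁, hne, hn⟩ := exists_fixed R hT i hi
  have hs2 : cs.simple i * cs.simple i = 1 := cs.simple_mul_simple_self i
  have hs1 : cs.simple i ≠ 1 := by
    intro h1
    have h2 := rep_simple_sr cs h i
    rw [h1, map_one, Module.End.one_apply] at h2
    have h3 := congrFun h2 i
    simp [sr] at h3
  have hord : orderOf (cs.simple i) = 2 := orderOf_eq_prime (by rw [pow_two, hs2]) hs1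
  have hidx : (Subgroup.zpowers (cs.simple i)).index = Nat.card W / 2 := by
    have h1 := (Subgroup.zpowers (cs.simple i)).index_mul_card
    rw [Nat.card_zpowers, hord] at h1
    omega
  have h1 : (NW cs R.nsys ⊥).relIndex (NN cs R.nsys) ≤ (⊥ : Subgroup W).index := relIndex_NW_le ⊥
  have h1' : (NW cs R.nsys (Subgroup.zpowers (cs.simple i))).relIndex (NN cs R.nsys) ≤
    (Subgroup.zpowers (cs.simple i)).index := relIndex_NW_le _
  rw [hidx] at h1'
  rw [Subgroup.index_bot] at h1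
  have h2 := Nat.mul_le_mul_left (m - 3) h1
  refine exists_elts₃ (sb_of_rgd R hG).nT (C := NW cs R.nsys ⊥) (D := NW cs R.nsys (Subgroup.zpowers (cs.simple i)))
    ?_ ht₁ hne ?_ hm (by omega)
  · rintro c ⟨w, hw, hc⟩ t ht
    exact comm_of_bot hT w hw c hc t ht
  · rintro g ⟨w, hw, hg⟩
    obtain ⟨k, rfl⟩ := Subgroup.mem_zpowers_iff.1 hw
    have hc : cs.simple i ^ k = 1 ∨ cs.simple i ^ k = cs.simple i := by
      obtain ⟨j, rfl | rfl⟩ := Int.even_or_odd' k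
      · left
        rw [zpow_mul, zpow_two, hs2, one_zpow]
      · right
        rw [zpow_add, zpow_mul, zpow_two, hs2, one_zpow, one_mul, zpow_one]
    rcases hc with hc | hc
    · rw [hc] at hg
      exact hT g hg.mem_of_one t₁ ht₁
    · rw [hc] at hg
      have h1 : (n i)⁻¹ * g ∈ T := (rp_simple cs R.nsys i).unique hg
      have h2 := hT _ h1 t₁ ht₁
      calc g * t₁ = n i * ((n i)⁻¹ * g * t₁) := by group
        _ = n i * t₁ * ((n i)⁻¹ * g) := by
          rw [h2]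
          group
        _ = t₁ * g := by
          rw [hn]
          group

/-- **Characters of type `∅` by counting**, `T` abelian and not contained in `M_i`. -/
theorem rgd_of_node [Finite W] [Finite Y] (hG : GG cs h T X = ⊤) (hT : ∀ a ∈ T, ∀ b ∈ T, a * b = b * a) (i : I)
    (hi : ¬ T ≤ MJ cs h X {i}) {m : ℕ} (hm : 3 ≤ m)
    (hc : 1 + Nat.card W / 2 + (m - 3) * Nat.card W < Nat.card T) :
    ∃ χ : Fin m → Y → ℂ, Function.Injective χ ∧ ∀ i, OddIrr (χ i) ∧ SF (χ i) ∧ HT cs h X (χ i) ∅ := by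
  obtain ⟨t, ht⟩ := exists_elts_of_node R hG hT i hi hm hc
  exact rgd_of_elts R hG t ht

end rgd

end Cfsg.Agent.H726.Four
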