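import Cfsg.Agent.H967.K4.Typ
import Cfsg.Agent.H726.Four.Orb
import Cfsg.Agent.H580.BN
import Cfsg.Agent.H596.Degree
import Cfsg.Agent.LieExceptional.BNPairCore

/-!
# The principal series: `σ`-fixed characters of odd degree (helper726, TEAM K4)

`SB U T N` : an abstract split Borel subgroup `U T`, with `N` normalising `T` and covering the double cosets.

* `SB.lam_conj` : a common constituent of two series gives conjugate characters of `T`;
* `SB.exists_series` : irreducible characters `lam i` of `T` pairwise not `N`-conjugate give different `σ`-fixed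
  characters of odd degree;
* `SB.exists_of_elts`, `SB.exists_of_card`, `SB.exists_of_card₃` : from elements, from counting;
* `SB.of_split`, `SB.of_rgd`; `rgd_*` : the same with Harish-Chandra type `∅`.
-/

set_option autoImplicit false
set_option linter.unusedSectionVars false

open scoped ComplexConjugate
open Cfsg

namespace Cfsg.Agent.H726.Four

open Cfsg.Agent.OddOrderCharacters.Clifford Cfsg.Agent.Characters Cfsg.Agent.H601.K4 Cfsg.Agent.H967.K4
  Cfsg.Agent.H246.Dl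

universe u

section abs

variable {G : Type u} [Group G]

/-- An abstract split Borel subgroup `B = U T`. -/
structure SB (U T N : Subgroup G) : Prop where
  norm : T ≤ Subgroup.normalizer (U : Set G)
  inf : ∀ x, x ∈ U → x ∈ T → x = 1
  le : T ≤ N
  nT : N ≤ Subgroup.normalizer (T : Set G)
  cov : ∀ x, ∃ b ∈ U ⊔ T, ∃ n ∈ N, ∃ b' ∈ U ⊔ T, x = b * n * b'
  oddT : Odd (Nat.card T)
  oddI : Odd (U ⊔ T).index

variable {U T N : Subgroup G}

/-- irreducible characters of a group of odd order -/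
theorem oddIrr_of_odd [Finite T] (ho : Odd (Nat.card T)) {lam : T → ℂ} (hl : IsIrrCharacter T lam) : OddIrr lam := by
  have := Fintype.ofFinite T
  refine ⟨hl, fun h2 => ?_⟩
  have h3 : charDegree lam ∣ Nat.card T := H596.charDegree_dvd_card hl
  exact (Nat.not_even_iff_odd.2 ho) (even_iff_two_dvd.2 (h2.trans h3))

namespace SB

theorem oddIrr [Finite G] (h : SB U T N) {lam : T → ℂ} (hl : IsIrrCharacter T lam) : OddIrr lam :=
  oddIrr_of_odd h.oddT hl

/-- **A common constituent.** -/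
theorem lam_conj [Finite G] (h : SB U T N) [Fintype U] [Fintype T] {lam mu : T → ℂ} (hl : IsIrrCharacter T lam)
    (hm : IsIrrCharacter T mu) {χ : G → ℂ} (hχ : IsIrrCharacter G χ) (h1 : ms U T χ lam ≠ 0)
    (h2 : ms U T χ mu ≠ 0) : ∃ x, ∃ hx : x ∈ N, lam = mu ∘ cT T x (h.nT hx) := by
  classical
  have := Fintype.ofFinite G
  obtain ⟨π, hπ⟩ := exists_proj U T h.norm h.inf
  have : Fintype ↥(U ⊔ T) := Fintype.ofFinite _
  rw [ms_eq U T h.norm h.inf hπ] at h1 h2
  have h1' := classInner_symm_ne (right_ne_zero_of_mul h1)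
  have h2' := classInner_symm_ne (right_ne_zero_of_mul h2)
  have hlc : IsCharacter _ (lam ∘ π) := Core.isCharacter_comp π (Core.isIrr_isCharacter hl)
  have hmc : IsCharacter _ (mu ∘ π) := Core.isCharacter_comp π (Core.isIrr_isCharacter hm)
  obtain ⟨x, hx⟩ := exists_tw (U ⊔ T) (U ⊔ T) hlc hmc hχ h1' h2'
  obtain ⟨b₁, hb₁, k, hk, b₂, hb₂, e⟩ := h.cov x
  rw [e, tw_mul _ _ (Core.isCharacter_isClassFunction hlc) (Core.isCharacter_isClassFunction hmc) hb₁ hb₂] at hx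
  have hT : ∀ t ∈ T, k⁻¹ * t * k ∈ T := fun t ht => (Subgroup.mem_normalizer_iff''.1 (h.nT hk) _).1 ht
  have hne : ∑ t : T, lam t * conj (mu ⟨k⁻¹ * t * k, hT t t.2⟩) ≠ 0 := by
    intro h0
    apply hx
    refine tw_eq_zero_of_sub _ _ hlc hmc k T le_sup_right (fun l hl => le_sup_right (a := U) (hT l hl)) ?_
    rw [← h0]
    refine Finset.sum_congr rfl fun t _ => ?_
    have h3 : ∀ (s : G) (hs : s ∈ T), π ⟨s, le_sup_right (a := U) hs⟩ = ⟨s, hs⟩ := by
      intro s hs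
      have h4 := hπ 1 (one_mem U) ⟨s, hs⟩
      rw [← h4]
      congr 1
      exact Subtype.ext (one_mul s).symm
    simp only [Function.comp_apply]
    rw [h3 t t.2, h3 _ (hT t t.2)]
  refine ⟨k, hk, ?_⟩
  by_contra hcon
  apply hne
  have hmk : IsIrrCharacter T (mu ∘ cT T k (h.nT hk)) := Core.isIrr_comp _ (cT_surj T _) hm
  have h5 : classInner lam (mu ∘ cT T k (h.nT hk)) = 0 := by
    rw [Core.classInner_irr hl hmk, if_neg hcon]
  rw [Core.classInner_def, mul_eq_zero] at h5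
  rcases h5 with h5 | h5
  · exact absurd h5 (inv_ne_zero Core.card_ne_zero_complex)
  · exact h5

/-- **The series.** -/
theorem exists_series [Finite G] (h : SB U T N) [Fintype U] [Fintype T] {m : ℕ} (lam : Fin m → T → ℂ)
    (hl : ∀ i, IsIrrCharacter T (lam i))
    (hne : ∀ i j, i ≠ j → ∀ x (hx : x ∈ N), lam i ≠ lam j ∘ cT T x (h.nT hx)) :
    ∃ χ : Fin m → G → ℂ, Function.Injective χ ∧ ∀ i, OddIrr (χ i) ∧ SF (χ i) ∧ ms U T (χ i) (lam i) ≠ 0 := by
  classical
  have := Fintype.ofFinite G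
  have h1 : ∀ i, ∃ χ : G → ℂ, OddIrr χ ∧ SF χ ∧ ms U T χ (lam i) ≠ 0 := fun i =>
    exists_odd_over U T h.norm h.inf h.oddI (h.oddIrr (hl i)) (SF.of_odd h.oddT _)
  choose χ h2 h3 h4 using h1
  refine ⟨χ, ?_, fun i => ⟨h2 i, h3 i, h4 i⟩⟩
  intro i j e
  by_contra hij
  obtain ⟨x, hx, e'⟩ := h.lam_conj (hl i) (hl j) (h2 i).1 (h4 i) (by rw [e]; exact h4 j)
  exact hne i j hij x hx e'

/-- **The series, from elements of `T`.** -/
theorem exists_of_elts [Finite G] (h : SB U T N) {m : ℕ} (t : Fin m → T)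
    (ht : ∀ i j, i ≠ j → ∀ x ∈ N, x * t i * x⁻¹ ≠ (t j : G)) :
    ∃ χ : Fin m → G → ℂ, Function.Injective χ ∧ ∀ i, OddIrr (χ i) ∧ SF (χ i) ∧ HasFix (χ i) U := by
  classical
  have := Fintype.ofFinite U
  have := Fintype.ofFinite T
  obtain ⟨lam, h1, h2⟩ := exists_orb h.le h.nT t ht
  obtain ⟨χ, h3, h4⟩ := h.exists_series lam h1 h2
  exact ⟨χ, h3, fun i => ⟨(h4 i).1, (h4 i).2.1, hasFix_of_ms U T h.norm (h4 i).1.1 (h4 i).2.2⟩⟩

/-- **The series, by counting.** -/
theorem exists_of_card [Finite G] (h : SB U T N) {C : Subgroup G} (hC : ∀ c ∈ C, ∀ t ∈ T, c * t = t * c) {m : ℕ}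
    (hm : 2 ≤ m) (hc : 1 + (m - 2) * C.relIndex N < Nat.card T) :
    ∃ χ : Fin m → G → ℂ, Function.Injective χ ∧ ∀ i, OddIrr (χ i) ∧ SF (χ i) ∧ HasFix (χ i) U := by
  obtain ⟨t, ht⟩ := exists_elts₂ h.nT hC hm hc
  exact h.exists_of_elts t ht

/-- **The series, by counting**, with a non-trivial element `t₁` having a small orbit. -/
theorem exists_of_card₃ [Finite G] (h : SB U T N) {C D : Subgroup G} (hC : ∀ c ∈ C, ∀ t ∈ T, c * t = t * c)
    {t₁ : G} (ht₁ : t₁ ∈ T) (hne : t₁ ≠ 1) (hD : ∀ d ∈ D, d * t₁ = t₁ * d) {m : ℕ}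
    (hm : 3 ≤ m) (hc : 1 + D.relIndex N + (m - 3) * C.relIndex N < Nat.card T) :
    ∃ χ : Fin m → G → ℂ, Function.Injective χ ∧ ∀ i, OddIrr (χ i) ∧ SF (χ i) ∧ HasFix (χ i) U := by
  obtain ⟨t, ht⟩ := exists_elts₃ h.nT hC ht₁ hne hD hm hc
  exact h.exists_of_elts t ht

/-- **Five characters from five elements.** -/
theorem good5_of_elts [Finite G] (h : SB U T N) (hT : H601.OddDeg.TwoC G) (t : Fin 5 → T)
    (ht : ∀ i j, i ≠ j → ¬ IsConj (t i : G) (t j : G)) : Good5 G := by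
  obtain ⟨χ, h1, h2⟩ := h.exists_of_elts t fun i j hij x _ e => ht i j hij (isConj_iff.2 ⟨x, e⟩)
  exact ⟨χ, h1, fun i => (h2 i).2.1.good (h2 i).1 hT⟩

/-- **Five characters by counting.** -/
theorem good5_of_card [Finite G] (h : SB U T N) (hT : H601.OddDeg.TwoC G) {C : Subgroup G}
    (hC : ∀ c ∈ C, ∀ t ∈ T, c * t = t * c) (hc : 3 * C.relIndex N + 1 < Nat.card T) : Good5 G := by
  obtain ⟨χ, h1, h2⟩ := h.exists_of_card hC (m := 5) (by norm_num) (by omega)
  exact ⟨χ, h1, fun i => (h2 i).2.1.good (h2 i).1 hT⟩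

/-- **Five characters by counting**, `T` abelian. -/
theorem good5_of_index [Finite G] (h : SB U T N) (hT : H601.OddDeg.TwoC G)
    (hc : ∀ a ∈ T, ∀ b ∈ T, a * b = b * a) (hk : 3 * T.relIndex N + 1 < Nat.card T) : Good5 G :=
  h.good5_of_card hT hc hk

end SB

end abs

section split

variable {K : Type u} [Group K] {P : Cfsg.BNPair K} {U : Subgroup K}

theorem split_inf [Finite K] (h : FixBN.Split P 2 U) {x : K} (hx : x ∈ U) (hxT : x ∈ P.B ⊓ P.N) : x = 1 := by
  obtain ⟨m, hm, hm1⟩ := h.tor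
  obtain ⟨k, hk⟩ := IsPGroup.iff_orderOf.1 h.isP ⟨x, hx⟩
  rw [Subgroup.orderOf_mk] at hk
  have h1 : orderOf x ∣ m := orderOf_dvd_of_pow_eq_one (hm1 x (Subgroup.mem_inf.1 hxT).1 (Subgroup.mem_inf.1 hxT).2)
  rw [hk] at h1
  rcases Nat.eq_zero_or_pos k with rfl | hk0
  · rw [pow_zero] at hk
    exact orderOf_eq_one_iff.1 hk
  · exact absurd ((dvd_pow_self 2 hk0.ne').trans h1) hm

theorem split_odd [Finite K] (h : FixBN.Split P 2 U) : Odd (Nat.card ↥(P.B ⊓ P.N)) := by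
  obtain ⟨m, hm, hm1⟩ := h.tor
  rw [← Nat.not_even_iff_odd, even_iff_two_dvd]
  intro h2
  have : Fact (Nat.Prime 2) := ⟨Nat.prime_two⟩
  obtain ⟨x, hx⟩ := exists_prime_orderOf_dvd_card' 2 h2
  have h1 : x ^ m = 1 := by
    apply Subtype.ext
    rw [SubmonoidClass.coe_pow]
    exact hm1 x (Subgroup.mem_inf.1 x.2).1 (Subgroup.mem_inf.1 x.2).2
  exact hm (hx ▸ orderOf_dvd_of_pow_eq_one h1)

/-- **A split BN-pair in characteristic two.** -/
theorem SB.of_split [Finite K] (h : FixBN.Split P 2 U) : SB U (P.B ⊓ P.N) P.N := by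
  have hB : ∀ b ∈ P.B, b ∈ U ⊔ (P.B ⊓ P.N) := by
    intro b hb
    obtain ⟨u, hu, t, ht, rfl⟩ := h.cover' hb
    exact mul_mem (le_sup_left (a := U) (b := P.B ⊓ P.N) hu) (le_sup_right (a := U) (b := P.B ⊓ P.N) ht)
  have hn : P.B ≤ Subgroup.normalizer (U : Set K) := h.normalizer_eq.ge
  refine ⟨inf_le_left.trans hn, fun x => split_inf h, inf_le_right, ?_, ?_, split_odd h, ?_⟩
  · intro n hnN
    rw [Subgroup.mem_normalizer_iff]
    intro t
    constructor
    · intro ht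
      exact Subgroup.mem_inf.2 ⟨P.conj_mem n hnN t ht, mul_mem (mul_mem hnN (Subgroup.mem_inf.1 ht).2) (inv_mem hnN)⟩
    · intro ht
      have h1 := P.conj_mem n⁻¹ (inv_mem hnN) _ ht
      have e : n⁻¹ * (n * t * n⁻¹) * n⁻¹⁻¹ = t := by group
      rw [e] at h1
      refine Subgroup.mem_inf.2 ⟨h1, ?_⟩
      have h2 := mul_mem (mul_mem (inv_mem hnN) (Subgroup.mem_inf.1 ht).2) (inv_mem (inv_mem hnN))
      rwa [e] at h2
  · intro x
    obtain ⟨n, hn, hx⟩ := LieExceptional.BNPairCore.bruhat (P := P) x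
    obtain ⟨b, hb, c, hc, e⟩ := DoubleCoset.mem_doubleCoset.1 hx
    exact ⟨b, hB b hb, n, hn, c, hB c hc, e⟩
  · have : Fact (Nat.Prime 2) := ⟨Nat.prime_two⟩
    obtain ⟨Q, hQ⟩ := H580.BN.exists_sylow_of_split h
    have h1 : Odd (Q : Subgroup K).index := by
      rw [← Nat.not_even_iff_odd, even_iff_two_dvd]
      exact Q.not_dvd_index
    rw [hQ] at h1
    exact h1.of_dvd_nat (Subgroup.index_dvd_of_le le_sup_left)

end split

end Cfsg.Agent.H726.Four
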