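import Cfsg.Agent.H627.Gow.Mackey
import Cfsg.Agent.H693.Defl

/-!
# The principal series of a group with a split Borel subgroup (helper726, TEAM FOUR, task FOUR-QE-T)

`TS p B T c g` : `T ≤ B` is a retract of `B` by `c : B →* T` with kernel a `p`-group, `T` is a `p'`-group, the elements
`g w` (`w` in a group `W`) normalise `T`, are representatives of the double cosets of `B`, and `w ↦ g w T` is a
homomorphism.

* `TS.inner` : the inner product of `R θ = Ind_B^G (θ ∘ c)` and `R θ'` is the number of `w` with `θ' ∘ w = θ`;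
* `TS.exists_conj` : `R θ` and `R θ'` have a common constituent only if `θ' ∘ w = θ` for some `w`;
* `TS.R_conj` : `R (θ ∘ w) = R θ`;
* `TS.fusion` : elements of `T` which are conjugate in `G` are conjugate by some `g w` and an element of `T`.
-/

set_option autoImplicit false
set_option linter.unusedSectionVars false

open scoped ComplexConjugate
open Cfsg

namespace Cfsg.Agent.H726.Four

open Cfsg.Agent.Characters.Core Cfsg.Agent.H627.Gow
open Cfsg.Agent.OddOrderCharacters.Clifford (dsub dhom mem_dsub)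

universe u v

section
variable {G : Type u} [Group G]

/-- conjugation `t ↦ x⁻¹ t x` on `T` -/
def cT (T : Subgroup G) (x : G) (hx : x ∈ Subgroup.normalizer (T : Set G)) : T →* T where
  toFun t := ⟨x⁻¹ * t * x, (Subgroup.mem_normalizer_iff''.1 hx _).1 t.2⟩
  map_one' := Subtype.ext (by simp)
  map_mul' a b := Subtype.ext (by simp [mul_assoc])

theorem cT_coe (T : Subgroup G) {x : G} (hx : x ∈ Subgroup.normalizer (T : Set G)) (t : T) :
    (cT T x hx t : G) = x⁻¹ * t * x := rfl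

theorem cT_surj (T : Subgroup G) {x : G} (hx : x ∈ Subgroup.normalizer (T : Set G)) :
    Function.Surjective (cT T x hx) := by
  intro t
  refine ⟨⟨x * t * x⁻¹, (Subgroup.mem_normalizer_iff.1 hx _).1 t.2⟩, Subtype.ext ?_⟩
  rw [cT_coe]
  group

/-- The set-up. -/
structure TS (p : ℕ) (B T : Subgroup G) (c : B →* T) {W : Type v} [Group W] (g : W → G) : Prop where
  le : T ≤ B
  ret : ∀ (t : G) (ht : t ∈ T), c ⟨t, le ht⟩ = ⟨t, ht⟩
  ker : ∀ b : B, c b = 1 → ∃ k, (b : G) ^ p ^ k = 1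
  cop : (Nat.card T).Coprime p
  norm : ∀ w, g w ∈ Subgroup.normalizer (T : Set G)
  cov : ∀ x, ∃ w, x ∈ dbl B (g w)
  dis : ∀ w w', g w' ∈ dbl B (g w) → w = w'
  mul : ∀ w w', (g w * g w')⁻¹ * g (w * w') ∈ T

variable {p : ℕ} {B T : Subgroup G} {c : B →* T} {W : Type v} [Group W] {g : W → G}

namespace TS

theorem surj (h : TS p B T c g) : Function.Surjective c := fun t => ⟨⟨t, h.le t.2⟩, h.ret t t.2⟩

/-- The retraction commutes with automorphisms preserving `T`. -/
theorem sep_aut [Finite G] (h : TS p B T c g) (α : G ≃* G) (hα : ∀ t ∈ T, α t ∈ T) {b : G} (hb : b ∈ B)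
    (hb' : α b ∈ B) : (c ⟨α b, hb'⟩ : G) = α (c ⟨b, hb⟩) := by
  have h1 : (c ⟨b, hb⟩ : G) ∈ B := h.le (c ⟨b, hb⟩).2
  have h2 : α (c ⟨b, hb⟩ : G) ∈ T := hα _ (c ⟨b, hb⟩).2
  have h3 : c ⟨c ⟨b, hb⟩, h1⟩ = c ⟨b, hb⟩ := h.ret _ (c ⟨b, hb⟩).2
  -- the `p`-part
  have hu : b * (c ⟨b, hb⟩ : G)⁻¹ ∈ B := mul_mem hb (inv_mem h1)
  have hu1 : c ⟨b * (c ⟨b, hb⟩ : G)⁻¹, hu⟩ = 1 := by
    have e : (⟨b * (c ⟨b, hb⟩ : G)⁻¹, hu⟩ : B) = ⟨b, hb⟩ * (⟨c ⟨b, hb⟩, h1⟩ : B)⁻¹ := rfl
    rw [e, map_mul, map_inv, h3, mul_inv_cancel]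
  obtain ⟨k, hk⟩ := h.ker _ hu1
  have hv : α (b * (c ⟨b, hb⟩ : G)⁻¹) ∈ B := by
    rw [map_mul, map_inv]
    exact mul_mem hb' (inv_mem (h.le h2))
  have hv1 : c ⟨_, hv⟩ = 1 := by
    have h4 : (c ⟨_, hv⟩) ^ p ^ k = 1 := by
      rw [← map_pow]
      have e : (⟨α (b * (c ⟨b, hb⟩ : G)⁻¹), hv⟩ : B) ^ p ^ k = 1 := by
        apply Subtype.ext
        rw [SubmonoidClass.coe_pow]
        change (α (b * (c ⟨b, hb⟩ : G)⁻¹)) ^ p ^ k = 1
        have h5 : (b * (c ⟨b, hb⟩ : G)⁻¹) ^ p ^ k = 1 := hk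
        rw [← map_pow, h5, map_one]
      rw [e, map_one]
    have h6 : orderOf (c ⟨_, hv⟩) ∣ Nat.gcd (Nat.card T) (p ^ k) :=
      Nat.dvd_gcd (orderOf_dvd_natCard _) (orderOf_dvd_of_pow_eq_one h4)
    rw [Nat.Coprime.gcd_eq_one (h.cop.pow_right k), Nat.dvd_one, orderOf_eq_one_iff] at h6
    exact h6
  have e : (⟨α b, hb'⟩ : B) = ⟨_, hv⟩ * ⟨α (c ⟨b, hb⟩ : G), h.le h2⟩ := by
    apply Subtype.ext
    change α b = α (b * (c ⟨b, hb⟩ : G)⁻¹) * α (c ⟨b, hb⟩ : G)
    rw [← map_mul, inv_mul_cancel_right]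
  rw [e, map_mul, hv1, one_mul, h.ret _ h2]

/-- The retraction commutes with conjugation by elements normalising `T`. -/
theorem sep [Finite G] (h : TS p B T c g) {x : G} (hx : x ∈ Subgroup.normalizer (T : Set G)) {b : G} (hb : b ∈ B)
    (hb' : x⁻¹ * b * x ∈ B) : c ⟨x⁻¹ * b * x, hb'⟩ = cT T x hx (c ⟨b, hb⟩) := by
  have e : ∀ y, MulAut.conj x⁻¹ y = x⁻¹ * y * x := fun y => by rw [MulAut.conj_apply, inv_inv]
  have h1 := h.sep_aut (MulAut.conj x⁻¹) (fun t ht => by
    rw [e]; exact (Subgroup.mem_normalizer_iff''.1 hx _).1 ht) hb (by rw [e]; exact hb')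
  have h2 : (⟨x⁻¹ * b * x, hb'⟩ : B) = ⟨MulAut.conj x⁻¹ b, by rw [e]; exact hb'⟩ := Subtype.ext (e b).symm
  apply Subtype.ext
  rw [cT_coe, h2]
  exact h1.trans (e _)

/-- The Mackey term. -/
theorem mterm_eq [Fintype G] [Fintype B] [Fintype T] (h : TS p B T c g) {x : G}
    (hx : x ∈ Subgroup.normalizer (T : Set G)) (θ θ' : T → ℂ) :
    mterm B (θ ∘ c) (θ' ∘ c) x = classInner θ (θ' ∘ cT T x hx) := by
  classical
  have hF : Fintype (dsub B x) := Fintype.ofFinite _
  rw [mterm_eq_classInner]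
  let q : dsub B x →* T := c.comp (dsub B x).subtype
  have hq : Function.Surjective q := by
    intro t
    have h1 : (⟨t, h.le t.2⟩ : B) ∈ dsub B x := by
      rw [mem_dsub]
      exact h.le (cT T x hx t).2
    exact ⟨⟨_, h1⟩, h.ret t t.2⟩
  have e1 : (θ ∘ c) ∘ (dsub B x).subtype = fun d => θ (q d) := rfl
  have e2 : (θ' ∘ c) ∘ dhom B x = fun d => (θ' ∘ cT T x hx) (q d) := by
    funext d
    have hd : x⁻¹ * ((d : B) : G) * x ∈ B := (mem_dsub B x d).1 d.2
    have h2 := h.sep hx (d : B).2 hd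
    change θ' (c (dhom B x d)) = θ' (cT T x hx (c (d : B)))
    rw [← h2]
    rfl
  rw [e1, e2, H693.Defl.classInner_comp_surj q hq]


/-- The principal series character. -/
noncomputable def R [Fintype G] (c : B →* T) (θ : T → ℂ) : G → ℂ := Cfsg.indFun B (θ ∘ c)

/-- the conjugate of `θ` by `w` -/
noncomputable def act (h : TS p B T c g) (w : W) (θ : T → ℂ) : T → ℂ := θ ∘ cT T (g w) (h.norm w)

theorem act_apply (h : TS p B T c g) (w : W) (θ : T → ℂ) (t : T) :
    h.act w θ t = θ (cT T (g w) (h.norm w) t) := rfl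

theorem isIrr_act (h : TS p B T c g) (w : W) {θ : T → ℂ} (hθ : IsIrrCharacter T θ) :
    IsIrrCharacter T (h.act w θ) := isIrr_comp _ (cT_surj T _) hθ

theorem act_act (h : TS p B T c g) (w w' : W) {θ : T → ℂ} (hθ : IsClassFunction T θ) :
    h.act w (h.act w' θ) = h.act (w * w') θ := by
  funext t
  rw [act_apply, act_apply, act_apply]
  let s : T := ⟨(g w * g w')⁻¹ * g (w * w'), h.mul w w'⟩
  have e : cT T (g (w * w')) (h.norm _) t =
      s⁻¹ * cT T (g w') (h.norm w') (cT T (g w) (h.norm w) t) * s⁻¹⁻¹ := by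
    apply Subtype.ext
    change (g (w * w'))⁻¹ * (t : G) * g (w * w') = ((g w * g w')⁻¹ * g (w * w'))⁻¹ *
      ((g w')⁻¹ * ((g w)⁻¹ * t * g w) * g w') * ((g w * g w')⁻¹ * g (w * w'))⁻¹⁻¹
    group
  rw [e, hθ]

theorem act_one (h : TS p B T c g) {θ : T → ℂ} (hθ : IsClassFunction T θ) : h.act 1 θ = θ := by
  funext t
  rw [act_apply]
  have h1 := h.mul 1 1
  rw [mul_one] at h1
  have h2 : (g 1)⁻¹ ∈ T := by
    have e : (g 1 * g 1)⁻¹ * g 1 = (g 1)⁻¹ := by group
    rwa [e] at h1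
  have e : cT T (g 1) (h.norm 1) t = (⟨_, h2⟩ : T) * t * (⟨_, h2⟩ : T)⁻¹ := by
    apply Subtype.ext
    change (g 1)⁻¹ * (t : G) * g 1 = (g 1)⁻¹ * t * (g 1)⁻¹⁻¹
    rw [inv_inv]
  rw [e, hθ]

theorem g_inj (h : TS p B T c g) : Function.Injective g := fun w w' e =>
  h.dis w w' ⟨1, one_mem _, 1, one_mem _, by rw [one_mul, mul_one, e]⟩

open Classical in
/-- **Inner products in the principal series.** -/
theorem inner [Fintype G] [Fintype W] (h : TS p B T c g) {θ θ' : T → ℂ} (hθ : IsIrrCharacter T θ)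
    (hθ' : IsIrrCharacter T θ') :
    classInner (R c θ) (R c θ') = ((Finset.univ.filter fun w : W => θ = h.act w θ').card : ℂ) := by
  have hFB : Fintype B := Fintype.ofFinite _
  have hFT : Fintype T := Fintype.ofFinite _
  have hc : ∀ {η : T → ℂ}, IsIrrCharacter T η → IsClassFunction B (η ∘ c) := fun hη =>
    isIrr_isClassFunction (isIrr_comp c h.surj hη)
  have h1 : classInner (indFun B (θ ∘ c)) (indFun B (θ' ∘ c)) =
      ∑ s ∈ Finset.univ.image g, mterm B (θ ∘ c) (θ' ∘ c) s := by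
    refine inner_eq (hc hθ) (hc hθ') _ ?_ ?_
    · intro s hs s' hs' hd
      obtain ⟨w, -, rfl⟩ := Finset.mem_image.1 hs
      obtain ⟨w', -, rfl⟩ := Finset.mem_image.1 hs'
      rw [h.dis w w' hd]
    · intro x _
      obtain ⟨w, hw⟩ := h.cov x
      exact ⟨g w, Finset.mem_image_of_mem g (Finset.mem_univ w), hw⟩
  unfold R
  rw [h1, Finset.sum_image fun w _ w' _ e => h.g_inj e, Finset.card_filter]
  push_cast
  refine Finset.sum_congr rfl fun w _ => ?_
  rw [h.mterm_eq (h.norm w)]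
  change classInner θ (h.act w θ') = _
  rw [classInner_irr hθ (h.isIrr_act w hθ')]

/-- **Disjointness.** -/
theorem exists_act [Fintype G] [Finite W] (h : TS p B T c g) {θ θ' : T → ℂ} (hθ : IsIrrCharacter T θ)
    (hθ' : IsIrrCharacter T θ') (hne : classInner (R c θ) (R c θ') ≠ 0) : ∃ w, θ = h.act w θ' := by
  classical
  have := Fintype.ofFinite W
  rw [h.inner hθ hθ'] at hne
  have h1 : (Finset.univ.filter fun w : W => θ = h.act w θ').card ≠ 0 := by exact_mod_cast hne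
  obtain ⟨w, hw⟩ := Finset.card_pos.1 (Nat.pos_of_ne_zero h1)
  exact ⟨w, (Finset.mem_filter.1 hw).2⟩

/-- **`W`-conjugate characters of `T` give the same principal series character.** -/
theorem R_act [Fintype G] [Finite W] (h : TS p B T c g) {θ : T → ℂ} (hθ : IsIrrCharacter T θ) (m : W) :
    R c (h.act m θ) = R c θ := by
  classical
  have := Fintype.ofFinite W
  have hθ' := h.isIrr_act m hθ
  have hcf := isIrr_isClassFunction hθ
  have hcf' := isIrr_isClassFunction hθ'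
  -- the four numbers of solutions
  have key : ∀ {η : T → ℂ}, IsIrrCharacter T η → ∀ m : W,
      (Finset.univ.filter fun w : W => η = h.act w (h.act m η)).card =
        (Finset.univ.filter fun w : W => η = h.act w η).card := by
    intro η hη m
    have hηc := isIrr_isClassFunction hη
    refine Finset.card_bij (fun w _ => w * m) ?_ ?_ ?_
    · intro w hw
      rw [Finset.mem_filter] at hw ⊢
      refine ⟨Finset.mem_univ _, ?_⟩
      rw [← h.act_act w m hηc]
      exact hw.2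
    · intro a _ b _ e
      exact mul_right_cancel e
    · intro b hb
      refine ⟨b * m⁻¹, ?_, by group⟩
      rw [Finset.mem_filter] at hb ⊢
      refine ⟨Finset.mem_univ _, ?_⟩
      rw [h.act_act _ _ hηc, inv_mul_cancel_right]
      exact hb.2
  have k1 := key hθ m
  have k2 := key hθ' m⁻¹
  rw [h.act_act _ _ hcf, inv_mul_cancel, h.act_one hcf] at k2
  have i1 := h.inner hθ hθ'
  have i2 := h.inner hθ' hθ
  have i3 := h.inner hθ hθ
  have i4 := h.inner hθ' hθ'
  rw [k1] at i1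
  rw [k2] at i2
  have i5 := classInner_conj_symm (R c θ) (R c (h.act m θ))
  rw [i1, i2, Complex.conj_natCast] at i5
  have i6 : (Finset.univ.filter fun w : W => θ = h.act w θ).card =
      (Finset.univ.filter fun w : W => h.act m θ = h.act w (h.act m θ)).card := by exact_mod_cast i5
  rw [i6] at i1 i3
  exact eq_of_inner i4 i3 i2 i1 le_rfl

end TS

end

end Cfsg.Agent.H726.Four
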