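import Cfsg.Agent.H687.FourK.Node
import Cfsg.Agent.Nodes.WittAll

/-!
# The last node of a Witt frame, characteristic two (helper726, TEAM K4)

`M : Model Fr K` a model of a Witt frame with `V0 = ⊥`.

* `torus_comm` : the torus is abelian;
* `nodeInv_last` : the representative of the last simple reflection inverts `T ∩ M_i`;
* `oc_last` : `OC {i}` for the last node `i`.
-/

set_option autoImplicit false
set_option linter.unusedSectionVars false

open Cfsg

namespace Cfsg.Agent.H726.Four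

open Cfsg.Agent.ChevalleyStructure.CoxeterGeom Cfsg.Agent.Tits.Roots Cfsg.Agent.Nodes.TypeC
open Cfsg.Agent.Nodes.Comb Cfsg.Agent.Nodes.Reps Cfsg.Agent.Nodes.WittRoot Cfsg.Agent.Nodes.BNOf
open Cfsg.Agent.Nodes.WittRGD Cfsg.Agent.Nodes.RGDLib
open Cfsg.Agent.TitsThree Cfsg.Agent.TitsThree.Siegel Cfsg.Agent.TitsThree.WittFrame
  Cfsg.Agent.TitsThree.WittWeyl Cfsg.Agent.TitsThree.FrameCN
open Cfsg.Agent.Nodes
open Cfsg.Agent.Nodes.WittAll (AmbT)
open Cfsg.Agent.H53.HC (MJ)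

section frame

variable {F : Type*} [Field F] {V : Type*} [AddCommGroup V] [Module F V] {H : HForm F V} {n : ℕ}
  {Fr : Frame H (Fin n)}

/-- the coefficients in the plane of `i` -/
theorem coef_eq {i : Fin n} {a b c d : F} (e : a • Fr.b (i, true) + b • Fr.b (i, false) =
    c • Fr.b (i, true) + d • Fr.b (i, false)) : a = c ∧ b = d := by
  have h1 := congrArg (fun v => H.h v (Fr.b (i, false))) e
  have h2 := congrArg (fun v => H.h v (Fr.b (i, true))) e
  have e1 : H.h (Fr.b (i, true)) (Fr.b (i, false)) ≠ 0 := by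
    have := Fr.hb_self_neg (i, true)
    rw [show (neg (i, true) : Fin n × Bool) = (i, false) from rfl] at this
    rw [this]
    exact Fr.η_ne _
  have e2 : H.h (Fr.b (i, false)) (Fr.b (i, true)) ≠ 0 := by
    have := Fr.hb_self_neg (i, false)
    rw [show (neg (i, false) : Fin n × Bool) = (i, true) from rfl] at this
    rw [this]
    exact Fr.η_ne _
  simp only [H.add_left, H.smul_left, Fr.hb_self, mul_zero, add_zero, zero_add] at h1 h2
  exact ⟨mul_right_cancel₀ e1 h1, mul_right_cancel₀ e2 h2⟩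

theorem b_ne_zero (x : Fin n × Bool) : Fr.b x ≠ 0 := by
  intro h0
  have h1 := Fr.hb_self_neg x
  rw [h0, H.zero_left] at h1
  exact Fr.η_ne _ h1.symm

variable (Fr) in
/-- special linear on the plane of `i`, trivial on the other frame vectors -/
def SLp (i : Fin n) : Subgroup (V ≃ₗ[F] V) where
  carrier := {g | (∀ x : Fin n × Bool, x.1 ≠ i → g (Fr.b x) = Fr.b x) ∧ ∃ α β γ δ : F,
    g (Fr.b (i, true)) = α • Fr.b (i, true) + β • Fr.b (i, false) ∧
    g (Fr.b (i, false)) = γ • Fr.b (i, true) + δ • Fr.b (i, false) ∧ α * δ - β * γ = 1}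
  one_mem' := ⟨fun _ _ => rfl, 1, 0, 0, 1, by simp, by simp, by ring⟩
  mul_mem' := by
    rintro g k ⟨hg, α, β, γ, δ, e1, e2, e3⟩ ⟨hk, α', β', γ', δ', f1, f2, f3⟩
    refine ⟨fun x hx => ?_, α' * α + β' * γ, α' * β + β' * δ, γ' * α + δ' * γ, γ' * β + δ' * δ, ?_, ?_, ?_⟩
    · rw [mul_apply', hk x hx, hg x hx]
    · rw [mul_apply', f1, map_add, map_smul, map_smul, e1, e2]
      module
    · rw [mul_apply', f2, map_add, map_smul, map_smul, e1, e2]
      module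
    · linear_combination (α' * δ' - β' * γ') * e3 + f3
  inv_mem' := by
    rintro g ⟨hg, α, β, γ, δ, e1, e2, e3⟩
    refine ⟨fun x hx => ?_, δ, -β, -γ, α, ?_, ?_, ?_⟩
    · have h1 : g⁻¹ (g (Fr.b x)) = Fr.b x := g.symm_apply_apply _
      rwa [hg x hx] at h1
    · have h1 : g (δ • Fr.b (i, true) + (-β) • Fr.b (i, false)) = Fr.b (i, true) := by
        rw [map_add, map_smul, map_smul, e1, e2]
        have h2 : δ • (α • Fr.b (i, true) + β • Fr.b (i, false)) + (-β) • (γ • Fr.b (i, true) + δ • Fr.b (i, false)) =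
          (α * δ - β * γ) • Fr.b (i, true) := by module
        rw [h2, e3, one_smul]
      have h3 : g⁻¹ (g (δ • Fr.b (i, true) + (-β) • Fr.b (i, false))) =
        δ • Fr.b (i, true) + (-β) • Fr.b (i, false) := g.symm_apply_apply _
      rwa [h1] at h3
    · have h1 : g ((-γ) • Fr.b (i, true) + α • Fr.b (i, false)) = Fr.b (i, false) := by
        rw [map_add, map_smul, map_smul, e1, e2]
        have h2 : (-γ) • (α • Fr.b (i, true) + β • Fr.b (i, false)) + α • (γ • Fr.b (i, true) + δ • Fr.b (i, false)) =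
          (α * δ - β * γ) • Fr.b (i, false) := by module
        rw [h2, e3, one_smul]
      have h3 : g⁻¹ (g ((-γ) • Fr.b (i, true) + α • Fr.b (i, false))) =
        (-γ) • Fr.b (i, true) + α • Fr.b (i, false) := g.symm_apply_apply _
      rwa [h1] at h3
    · linear_combination e3

theorem inv_apply_of {g : V ≃ₗ[F] V} {a : F} (ha : a ≠ 0) {v w : V} (e : g v = a • w) : g⁻¹ w = a⁻¹ • v := by
  have h1 : g⁻¹ (g v) = v := g.symm_apply_apply _
  rw [e, map_smul] at h1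
  rw [← h1, smul_smul, inv_mul_cancel₀ ha, one_smul]

theorem four_mul {a c : F} (ha : a ≠ 0) (hc : c ≠ 0) : a⁻¹ * c⁻¹ * a * c = 1 := by
  field_simp

theorem four_mul' {a c : F} (ha : a ≠ 0) (hc : c ≠ 0) : a * c⁻¹ * a⁻¹ * c = 1 := by
  field_simp

variable (hV0 : Fr.V0 = ⊥)

include hV0

theorem adm_w (p : Fr.Adm) : p.w = 0 := by
  have h1 := Fr.ok_mem p.ok
  rw [hV0] at h1
  exact (Submodule.mem_bot F).1 h1

theorem Z_mem_SLp (i : Fin n) (s : Bool) (p : Fr.Adm) : Fr.Z (i, s) p ∈ SLp Fr i := by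
  have hw := adm_w hV0 p
  refine ⟨fun x hx => Z_apply_of_ne Fr (fun e => hx (by rw [e, neg_fst])) p, ?_⟩
  cases s
  · have h1 := Z_apply_neg Fr (i, false) p
    rw [hw, smul_zero, add_zero] at h1
    refine ⟨1, p.c * Fr.η (i, false), 0, 1, ?_, ?_, by ring⟩
    · rw [one_smul]
      exact h1
    · rw [zero_smul, zero_add, one_smul]
      exact Z_apply_of_ne Fr (ne_neg_self _) p
  · have h1 := Z_apply_neg Fr (i, true) p
    rw [hw, smul_zero, add_zero] at h1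
    refine ⟨1, 0, p.c * Fr.η (i, true), 1, ?_, ?_, by ring⟩
    · rw [zero_smul, add_zero, one_smul]
      exact Z_apply_of_ne Fr (ne_neg_self _) p
    · rw [one_smul, add_comm]
      exact h1

theorem ZG_le_SLp (i : Fin n) (s : Bool) : ZG Fr (i, s) ≤ SLp Fr i := by
  rintro g ⟨p, rfl⟩
  exact Z_mem_SLp hV0 i s p

variable {p : ℕ} {G0 : Subgroup (V ≃ₗ[F] V)} (hA : AmbT Fr p G0)

include hA

/-- an isometry fixing the frame -/
theorem eq_one_of_fix {g : V ≃ₗ[F] V} (hg : g ∈ G0) (hb : ∀ x, g (Fr.b x) = Fr.b x) : g = 1 := by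
  ext v
  have h1 : g v - v ∈ Fr.V0 := by
    refine hA.V0 _ fun x => ?_
    rw [H.sub_left]
    have h2 := hA.iso g hg v (Fr.b x)
    rw [hb] at h2
    rw [h2, sub_self]
  rw [hV0, Submodule.mem_bot, sub_eq_zero] at h1
  exact h1

theorem tor_comm {g k : V ≃ₗ[F] V} (hg : g ∈ Tor Fr G0) (hk : k ∈ Tor Fr G0) : g * k = k * g := by
  have h1 : g * k * g⁻¹ * k⁻¹ = 1 := by
    refine eq_one_of_fix hV0 hA (mul_mem (mul_mem (mul_mem hg.1 hk.1) (inv_mem hg.1)) (inv_mem hk.1)) fun x => ?_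
    obtain ⟨a, ha, ea⟩ := hg.2 x
    obtain ⟨b, hb, eb⟩ := hk.2 x
    rw [id_eq] at ea eb
    have ea' : g⁻¹ (Fr.b x) = a⁻¹ • Fr.b x := inv_apply_of ha ea
    have eb' : k⁻¹ (Fr.b x) = b⁻¹ • Fr.b x := inv_apply_of hb eb
    rw [mul_apply', mul_apply', mul_apply', eb', map_smul, ea', map_smul, map_smul, map_smul, map_smul, eb, map_smul,
      ea, smul_smul, smul_smul, smul_smul]
    have e : b⁻¹ * a⁻¹ * b * a = 1 := by field_simp
    rw [e, one_smul]
  calc g * k = g * k * g⁻¹ * k⁻¹ * (k * g) := by group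
    _ = k * g := by rw [h1, one_mul]

end frame

section model

variable {F : Type*} [Field F] {V : Type*} [AddCommGroup V] [Module F V] {H : HForm F V} {n : ℕ}
  {Fr : Frame H (Fin n)} {K : Type*} [Group K] (M : Model Fr K) {p : ℕ} (hA : AmbT Fr p M.I) (hV0 : Fr.V0 = ⊥)

include hA hV0

/-- **The torus is abelian.** -/
theorem torus_comm : ∀ a ∈ WittModel.T M, ∀ b ∈ WittModel.T M, a * b = b * a := by
  rintro _ ⟨a, ha, rfl⟩ _ ⟨b, hb, rfl⟩
  rw [← map_mul, ← map_mul]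
  congr 1
  apply Subtype.ext
  exact tor_comm hV0 hA (Subgroup.mem_subgroupOf.1 ha) (Subgroup.mem_subgroupOf.1 hb)

omit hA in
theorem MJ_le {W : Type*} [Group W] (cs : CoxeterSystem (CoxeterMatrix.B n) W) {i : Fin n} (hi : ¬ (i : ℕ) + 1 < n) :
    MJ cs (isCartan n) (WittModel.X M) {i} ≤ ((SLp Fr i).subgroupOf M.I).map M.φ := by
  have hnx : nx i = (i, true) := by
    unfold nx
    rw [dif_neg hi]
  have key : ∀ x, rg Fr x ≤ SLp Fr i → WittModel.X M x ≤ ((SLp Fr i).subgroupOf M.I).map M.φ := by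
    intro x hx
    exact Subgroup.map_mono (fun g hg => Subgroup.mem_subgroupOf.2 (hx (Subgroup.mem_subgroupOf.1 hg)))
  refine RGD.Sup_le fun x hx => ?_
  rcases H619.Gow.rootsJ_single hx with rfl | rfl
  · refine key _ ?_
    rw [rg_sr, hnx, PG_self]
    exact ZG_le_SLp hV0 i true
  · refine key _ ?_
    rw [rg_neg_sr, hnx, PG_self]
    exact ZG_le_SLp hV0 i false

/-- elements of the torus in `M_i` -/
theorem exists_tor_SLp {W : Type*} [Group W] (cs : CoxeterSystem (CoxeterMatrix.B n) W) {i : Fin n}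
    (hi : ¬ (i : ℕ) + 1 < n) {t : K} (ht : t ∈ WittModel.T M) (ht' : t ∈ MJ cs (isCartan n) (WittModel.X M) {i}) :
    ∃ (g : V ≃ₗ[F] V) (hg : g ∈ M.I), M.φ ⟨g, hg⟩ = t ∧ (∀ x : Fin n × Bool, x.1 ≠ i → g (Fr.b x) = Fr.b x) ∧
      ∃ a : F, a ≠ 0 ∧ g (Fr.b (i, true)) = a • Fr.b (i, true) ∧ g (Fr.b (i, false)) = a⁻¹ • Fr.b (i, false) := by
  obtain ⟨⟨m₀, hm₀⟩, hm, rfl⟩ := MJ_le M hV0 cs hi ht'
  obtain ⟨⟨t₀, ht₀⟩, htT, e⟩ := ht
  have hm := Subgroup.mem_subgroupOf.1 hm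
  have htT := Subgroup.mem_subgroupOf.1 htT
  obtain ⟨hfix, α, β, γ, δ, e1, e2, e3⟩ := hm
  have hker : M.φ ((⟨t₀, ht₀⟩ : M.I)⁻¹ * ⟨m₀, hm₀⟩) = 1 := by
    rw [map_mul, map_inv, e, inv_mul_cancel]
  have hdiag : ∀ x, ∃ c : F, m₀ (Fr.b x) = c • Fr.b x := by
    intro x
    obtain ⟨c, hc⟩ : ∃ c : F, (t₀⁻¹ * m₀) (Fr.b x) = c • Fr.b x := M.ker (Fr.b x) _ hker
    obtain ⟨l, -, hl⟩ := htT.2 x
    rw [id_eq] at hl
    refine ⟨c * l, ?_⟩
    have h1 : t₀ ((t₀⁻¹ * m₀) (Fr.b x)) = m₀ (Fr.b x) := t₀.apply_symm_apply _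
    rw [← h1, hc, map_smul, hl, smul_smul]
  obtain ⟨a, ha⟩ := hdiag (i, true)
  obtain ⟨d, hd⟩ := hdiag (i, false)
  have c1 : α = a ∧ β = 0 := coef_eq (Fr := Fr) (i := i) (by
    rw [← e1, ha, zero_smul, add_zero])
  have c2 : γ = 0 ∧ δ = d := coef_eq (Fr := Fr) (i := i) (by
    rw [← e2, hd, zero_smul, zero_add])
  rw [c1.1, c1.2, c2.1, c2.2, mul_zero, sub_zero] at e3
  have ha0 : a ≠ 0 := left_ne_zero_of_mul_eq_one e3
  refine ⟨m₀, hm₀, rfl, hfix, a, ha0, ha, ?_⟩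
  rw [hd, eq_inv_of_mul_eq_one_right e3]

/-- **The last reflection inverts `T ∩ M_i`.** -/
theorem inv_last {p0 : Fr.Adm} (hp0 : p0.c ≠ 0) {W : Type*} [Group W]
    (cs : CoxeterSystem (CoxeterMatrix.B n) W) {i : Fin n} (hi : ¬ (i : ℕ) + 1 < n) {t : K}
    (ht : t ∈ WittModel.T M) (ht' : t ∈ MJ cs (isCartan n) (WittModel.X M) {i}) :
    M.φ ⟨nn Fr p0 i, WittAll.nn_mem hA p0 i⟩ * t * (M.φ ⟨nn Fr p0 i, WittAll.nn_mem hA p0 i⟩)⁻¹ = t⁻¹ := by
  obtain ⟨g, hg, rfl, hfix, a, ha, e1, e2⟩ := exists_tor_SLp M hA hV0 cs hi ht ht'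
  have hn : nn Fr p0 i = nZ Fr (i, true) p0 := by
    unfold WittRGD.nn
    rw [if_neg hi]
  have hnI : nZ Fr (i, true) p0 ∈ M.I := by
    rw [← hn]
    exact WittAll.nn_mem hA p0 i
  have hsub : (⟨nn Fr p0 i, WittAll.nn_mem hA p0 i⟩ : M.I) = ⟨nZ Fr (i, true) p0, hnI⟩ := Subtype.ext hn
  rw [hsub, ← map_inv, ← map_inv, ← map_mul, ← map_mul]
  congr 1
  apply Subtype.ext
  change nZ Fr (i, true) p0 * g * (nZ Fr (i, true) p0)⁻¹ = g⁻¹
  have h1 : nZ Fr (i, true) p0 * g * (nZ Fr (i, true) p0)⁻¹ * g = 1 := by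
    refine eq_one_of_fix hV0 hA (mul_mem (mul_mem (mul_mem hnI hg) (inv_mem hnI)) hg) fun x => ?_
    have f1 : nZ Fr (i, true) p0 (Fr.b (i, true)) = _ := nZ_apply_self Fr (i, true) p0 hp0
    have f2 : nZ Fr (i, true) p0 (Fr.b (i, false)) = _ := nZ_apply_neg Fr (i, true) p0 hp0
    have hσ : H.σ p0.c ≠ 0 := by simpa using hp0
    have c1 : H.ε * (Fr.η (i, true))⁻¹ * (H.σ p0.c)⁻¹ ≠ 0 :=
      mul_ne_zero (mul_ne_zero H.ε_ne (inv_ne_zero (Fr.η_ne _))) (inv_ne_zero hσ)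
    have c2 : Fr.η (i, true) * p0.c ≠ 0 := mul_ne_zero (Fr.η_ne _) hp0
    have f1' := inv_apply_of c1 f1
    have f2' := inv_apply_of c2 f2
    obtain ⟨j, s⟩ := x
    by_cases hj : j = i
    · subst hj
      cases s
      · -- `b (i, false)`
        have f3 : (nZ Fr (j, true) p0)⁻¹ (Fr.b (j, false)) = _ := f1'
        rw [mul_apply', mul_apply', mul_apply', e2, map_smul, f3, map_smul, map_smul, map_smul, map_smul, e1,
          map_smul, f1, smul_smul, smul_smul, smul_smul]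
        rw [four_mul ha c1, one_smul]
        rfl
      · rw [mul_apply', mul_apply', mul_apply', e1, map_smul, f2', map_smul, map_smul, map_smul, map_smul, e2,
          map_smul, f2, smul_smul, smul_smul, smul_smul]
        rw [four_mul' ha c2, one_smul]
    · have f3 : nZ Fr (i, true) p0 (Fr.b (j, s)) = Fr.b (j, s) :=
        nZ_apply_of_ne (Fr := Fr) (x := (i, true)) (z := (j, s)) hj p0
      have f4 : (nZ Fr (i, true) p0)⁻¹ (Fr.b (j, s)) = Fr.b (j, s) := by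
        have h1 : (nZ Fr (i, true) p0)⁻¹ (nZ Fr (i, true) p0 (Fr.b (j, s))) = Fr.b (j, s) :=
          (nZ Fr (i, true) p0).symm_apply_apply _
        rwa [f3] at h1
      rw [mul_apply', mul_apply', mul_apply', hfix (j, s) hj, f4, hfix (j, s) hj, f3]
  exact eq_inv_of_mul_eq_one_left h1

variable [Finite V] [Fact p.Prime] [CharP F p]

theorem sq_last [CharP F 2] {i : Fin n} (hi : ¬ (i : ℕ) + 1 < n) {u : K} (hu : u ∈ WittModel.X M (sr i)) :
    u * u = 1 := by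
  obtain ⟨g, hg, hgr, rfl⟩ := (WittModel.mem_X M).1 hu
  have hnx : nx i = (i, true) := by
    unfold nx
    rw [dif_neg hi]
  rw [rg_sr, hnx, PG_self] at hgr
  obtain ⟨q, rfl⟩ := hgr
  have hq : q * q = 1 := by
    have hw := adm_w hV0 q
    ext
    · simp [hw]
    · rw [Frame.Adm.mul_c, hw, H.zero_left, mul_zero, sub_zero, Frame.Adm.one_c]
      exact CharTwo.add_self_eq_zero _
  rw [← map_mul]
  have e : (⟨Fr.Z (i, true) q, hg⟩ * ⟨Fr.Z (i, true) q, hg⟩ : M.I) = 1 := by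
    apply Subtype.ext
    change Fr.Z (i, true) q * Fr.Z (i, true) q = 1
    rw [← Fr.Z_mul, hq, Fr.Z_one]
  rw [e, map_one]

end model

section oc

variable {F : Type*} [Field F] {V : Type*} [AddCommGroup V] [Module F V] {H : HForm F V} {n : ℕ}
  {Fr : Frame H (Fin n)} {K : Type*} [Group K] (M : Model Fr K) (hA : AmbT Fr 2 M.I) (hV0 : Fr.V0 = ⊥)
  [Finite V] [CharP F 2]

include hA hV0

/-- **`OC` for the last node.** -/
theorem oc_last [Finite K] {p0 : Fr.Adm} (hp0 : p0.c ≠ 0) {W : Type*} [Group W] [Finite W]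
    (cs : CoxeterSystem (CoxeterMatrix.B n) W) {i : Fin n} (hi : ¬ (i : ℕ) + 1 < n) :
    H967.K4.OC cs (isCartan n) (WittModel.X M) {i} := by
  have : Fact (Nat.Prime 2) := ⟨Nat.prime_two⟩
  have R := WittAll.rgdC_model M hA hp0 cs
  exact H687.FourK.oc_node_inv R (H687.FourK.NodeInv.of_comm R (torus_comm M hA hV0)
    fun t ht ht' => inv_last M hA hV0 hp0 cs hi ht ht') fun u hu => sq_last M hA hV0 hi hu

end oc

end Cfsg.Agent.H726.Four
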